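import Cfsg.Agent.Lib.ExtraThirtyTwo.Frame

/-!
# Facts about the normal forms, by computation
-/

set_option autoImplicit false
set_option Elab.async false

namespace CfsgLib.ExtraThirtyTwo

/-- Rewrite until nothing changes. -/
def norm (R : List (List ℕ × List ℕ)) : ℕ → List ℕ → List ℕ
  | 0, l => l
  | n + 1, l =>
    match step R l == l with
    | true => l
    | false => norm R n (step R l)

theorem Holds.norm {G : Type*} [Group G] {v : ℕ → G} {R : List (List ℕ × List ℕ)} (h : Holds v R) :
    ∀ n l, ev v (norm R n l) = ev v l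
  | 0, _ => rfl
  | n + 1, l => by
    unfold ExtraThirtyTwo.norm
    split
    · rfl
    · rw [Holds.norm h n, h.step]

/-- The normal form in the pairs. -/
def nf (l : List ℕ) : List ℕ := norm baseRules 100 l

/-- With which generators a word commutes. -/
def sig (w : List ℕ) : List Bool := [1, 2, 3, 4].map fun i => nf (i :: w) == nf (w ++ [i])

/-- The normal forms with what they commute with. -/
def sigTab : List (List ℕ × List Bool) := [
    ([], [true, true, true, true]), ([0], [true, true, true, true]),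
    ([1], [true, true, true, false]), ([0, 1], [true, true, true, false]),
    ([2], [true, true, false, true]), ([0, 2], [true, true, false, true]),
    ([1, 2], [true, true, false, false]), ([0, 1, 2], [true, true, false, false]),
    ([3], [true, false, true, true]), ([0, 3], [true, false, true, true]),
    ([1, 3], [true, false, true, false]), ([0, 1, 3], [true, false, true, false]),
    ([2, 3], [true, false, false, true]), ([0, 2, 3], [true, false, false, true]),
    ([1, 2, 3], [true, false, false, false]), ([0, 1, 2, 3], [true, false, false, false]),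
    ([4], [false, true, true, true]), ([0, 4], [false, true, true, true]),
    ([1, 4], [false, true, true, false]), ([0, 1, 4], [false, true, true, false]),
    ([2, 4], [false, true, false, true]), ([0, 2, 4], [false, true, false, true]),
    ([1, 2, 4], [false, true, false, false]), ([0, 1, 2, 4], [false, true, false, false]),
    ([3, 4], [false, false, true, true]), ([0, 3, 4], [false, false, true, true]),
    ([1, 3, 4], [false, false, true, false]), ([0, 1, 3, 4], [false, false, true, false]),
    ([2, 3, 4], [false, false, false, true]), ([0, 2, 3, 4], [false, false, false, true]),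
    ([1, 2, 3, 4], [false, false, false, false]), ([0, 1, 2, 3, 4], [false, false, false, false])]

theorem sig_tab : coreWords.map (fun w => (w, sig w)) = sigTab := by decide +kernel

theorem nf_cons : ∀ w ∈ coreWords, ∀ k ∈ List.range 5, nf (k :: w) ∈ coreWords := by decide +kernel

theorem nf_sq : ∀ w ∈ coreWords, nf (w ++ w) ∈ coreWords := by decide +kernel

theorem nf_turn : ∀ w ∈ coreWords,
    nf ([5] ++ w ++ [5, 5]) ∈ coreWords ∧ nf (w ++ [5, 5] ++ w ++ [5]) ∈ coreWords := by decide +kernel

theorem nf_core : ∀ w ∈ coreWords, nf w = w := by decide +kernel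

theorem nf_cxw : ∀ k ∈ List.range 3, ∀ z ∈ [[1], [3], [0, 1, 3]], nf (cxw k z) ∈ coreWords := by
  decide +kernel

theorem cm_check : ∀ w ∈ coreWords, ∀ i ∈ [1, 2, 3, 4],
    nf (i :: w) = nf (w ++ [i]) ∨ nf (i :: w) = nf ([0] ++ w ++ [i]) := by decide +kernel

theorem sep_check : ∀ p ∈ sigTab, ∀ q ∈ sigTab, p.2 = q.2 → p.1 = q.1 ∨ nf (0 :: p.1) = q.1 := by
  decide +kernel

theorem image_check : ∀ w ∈ coreWords, nf (w ++ w) = [] →
    nf ([5] ++ w ++ [5, 5]) = nf (w ++ [5, 5] ++ w ++ [5]) →
    w = [] ∨ w = [0] ∨ ∃ k ∈ List.range 3, ∃ z ∈ [[1], [3], [0, 1, 3]], w = nf (cxw k z) := by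
  decide +kernel

theorem partner_check : ∀ k ∈ List.range 3, ∀ z ∈ [[1], [3], [0, 1, 3]],
    nf ([1] ++ cxw k z) = nf (cxw k z ++ [1]) →
    ¬ nf ([1, 2] ++ cxw k z) = nf (cxw k z ++ [1, 2]) → k = 0 ∧ z ≠ [1] := by decide +kernel

theorem partner_mem : ∀ k ∈ List.range 3, ∀ z ∈ [[1], [3], [0, 1, 3]],
    nf ([1] ++ cxw k z) ∈ coreWords ∧ nf (cxw k z ++ [1]) ∈ coreWords := by decide +kernel

theorem pair_check : ∀ w ∈ coreWords, nf (w ++ w) = [] → w ≠ [] → w ≠ [0] →
    ∃ p ∈ coreWords, ∃ r ∈ coreWords, nf (p ++ p) = [] ∧ nf (r ++ r) = [] ∧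
      nf (p ++ w) = nf (w ++ p) ∧ nf (r ++ w) = nf (w ++ r) ∧ nf (p ++ r) = nf ([0] ++ r ++ p) := by
  decide +kernel

theorem shape_check : coreWords.length = 32 ∧ coreWords.Nodup ∧ allWords.length = 192 ∧
    allWords.Nodup ∧ ∀ w ∈ coreWords, w ∈ allWords := by decide +kernel

/-- The six tails of the normal forms. -/
def tails : List (List ℕ) := [[], [5], [5, 5], [6], [5, 6], [5, 5, 6]]

theorem allWords_split : ∀ w ∈ allWords, ∃ q ∈ coreWords, ∃ r ∈ tails, w = q ++ r := by decide +kernel

theorem allWords_join : ∀ q ∈ coreWords, ∀ r ∈ tails, q ++ r ∈ allWords := by decide +kernel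

theorem pass_x : ∀ w ∈ coreWords, ∃ q ∈ coreWords, nf (5 :: w) = q ++ [5] := by
  have h : ∀ w ∈ coreWords, (nf (5 :: w)).dropLast ∈ coreWords ∧
      nf (5 :: w) = (nf (5 :: w)).dropLast ++ [5] := by decide +kernel
  exact fun w hw => ⟨_, h w hw⟩

theorem pass_u : ∀ sw ns, ∀ w ∈ coreWords,
    ∃ q ∈ coreWords, norm (allRules sw ns) 100 (6 :: w) = q ++ [6] := by
  have h : ∀ sw ns, ∀ w ∈ coreWords, (norm (allRules sw ns) 100 (6 :: w)).dropLast ∈ coreWords ∧
      norm (allRules sw ns) 100 (6 :: w) = (norm (allRules sw ns) 100 (6 :: w)).dropLast ++ [6] := by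
    decide +kernel
  exact fun sw ns w hw => ⟨_, h sw ns w hw⟩

theorem tail_step : ∀ sw ns, ∀ k ∈ [5, 6], ∀ r ∈ tails,
    norm (allRules sw ns) 100 (k :: r) ∈ allWords := by decide +kernel

theorem square_check : ∀ sw, ∀ w ∈ coreWords,
    norm (allRules sw true) 100 (w ++ [6] ++ w ++ [6]) ∈ coreWords ∧
      norm (allRules sw true) 100 (w ++ [6] ++ w ++ [6]) ≠ [] := by decide +kernel

end CfsgLib.ExtraThirtyTwo
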