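import Cfsg.Agent.Lib.ExtraThirtyTwo.Normal
import Cfsg.Agent.Lib.MTwelveInvol.Bridge

/-!
# Reading a model of permutations of eight points off a frame
-/

set_option autoImplicit false

noncomputable section

namespace CfsgLib.ExtraThirtyTwo

open CfsgLib.MTwelveInvol (mulC enc dig onec dig_enc enc_congr)

/-- The code of a permutation. -/
def pcode (p : Equiv.Perm (Fin 8)) : ℕ := enc fun i => if h : i < 8 then (p ⟨i, h⟩).val else 0

theorem dig_pcode (p : Equiv.Perm (Fin 8)) (i : Fin 8) : dig (pcode p) i = (p i).val := by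
  rw [pcode, dig_enc (fun j hj => by rw [dif_pos hj]; exact (p _).isLt) i.isLt, dif_pos i.isLt]

theorem pcode_mul (p q : Equiv.Perm (Fin 8)) : pcode (p * q) = mulC (pcode p) (pcode q) := by
  refine enc_congr fun i hi => ?_
  rw [dif_pos hi, dig_pcode q ⟨i, hi⟩, dig_pcode p (q ⟨i, hi⟩)]
  rfl

theorem pcode_inj {p q : Equiv.Perm (Fin 8)} (h : pcode p = pcode q) : p = q :=
  Equiv.ext fun i => Fin.ext (by rw [← dig_pcode, h, dig_pcode])

theorem pcode_one : pcode 1 = onec := by decide +kernel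

/-- The code of a word. -/
def evC (cs : List ℕ) : List ℕ → ℕ
  | [] => onec
  | i :: l => mulC (cs.getD i onec) (evC cs l)

theorem evC_eq {p : ℕ → Equiv.Perm (Fin 8)} {cs : List ℕ} (hc : ∀ i, pcode (p i) = cs.getD i onec) :
    ∀ l, pcode (ev p l) = evC cs l
  | [] => pcode_one
  | i :: l => by rw [ev_cons, pcode_mul, evC_eq hc l, hc]; rfl

/-- Codes for the centralizer of `s`. -/
structure Coded {G : Type*} [Group G] (s : G) (Ls : List ℕ) where
  /-- The code of an element. -/
  code : G → ℕ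
  mem : ∀ g, g * s = s * g → code g ∈ Ls
  mul : ∀ g h, g * s = s * g → h * s = s * h → code (g * h) = mulC (code g) (code h)
  inj : ∀ g h, g * s = s * g → h * s = s * h → code g = code h → g = h
  surj : ∀ c ∈ Ls, ∃ g, g * s = s * g ∧ code g = c
  code_one : code 1 = onec

theorem single_mem : ∀ i ∈ List.range 7, [i] ∈ allWords := by decide +kernel

theorem Frame.exists_coded {G : Type*} [Group G] [Finite G] {s a b x u : G} {Q : Subgroup G} {sw : Bool}
    (F : Frame s Q a b x u sw false) (p : ℕ → Equiv.Perm (Fin 8)) (cs : List ℕ) (Ls : List ℕ)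
    (hc : ∀ i, pcode (p i) = cs.getD i onec)
    (hrules : ∀ r ∈ allRules sw false, evC cs r.1 = evC cs r.2)
    (hnd : (allWords.map (evC cs)).Nodup)
    (hsub : ∀ w ∈ allWords, evC cs w ∈ Ls) (hsup : ∀ c ∈ Ls, c ∈ allWords.map (evC cs)) :
    ∃ D : Coded s Ls, ∀ i < 7, D.code (vals s a b x u i) = evC cs [i] := by
  classical
  set v := vals s a b x u with hv
  let v' : ℕ → G × Equiv.Perm (Fin 8) := fun i => (v i, p i)
  have hfst : ∀ l, (ev v' l).1 = ev v l := fun l => by
    induction l with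
    | nil => rfl
    | cons i l ih => rw [ev_cons, ev_cons, Prod.fst_mul, ih]
  have hsnd : ∀ l, (ev v' l).2 = ev p l := fun l => by
    induction l with
    | nil => rfl
    | cons i l ih => rw [ev_cons, ev_cons, Prod.snd_mul, ih]
  have H : Holds v' (allRules sw false) := fun r hr => Prod.ext
    (by rw [hfst, hfst]; exact F.rules r hr)
    (pcode_inj (by rw [hsnd, hsnd, evC_eq hc, evC_eq hc, hrules r hr]))
  let code : G → ℕ := fun g => if h : ∃ w ∈ allWords, ev v w = g then evC cs h.choose else onec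
  have hcode : ∀ w ∈ allWords, code (ev v w) = evC cs w := by
    intro w hw
    have h : ∃ w' ∈ allWords, ev v w' = ev v w := ⟨w, hw, rfl⟩
    show (if h : ∃ w' ∈ allWords, ev v w' = ev v w then evC cs h.choose else onec) = _
    rw [dif_pos h, F.word_inj h.choose_spec.1 hw h.choose_spec.2]
  have hlt : ∀ w ∈ allWords, ∀ i ∈ w, i < 7 := by decide +kernel
  refine ⟨⟨code, fun g hg => ?_, fun g h hg hh => ?_, fun g h hg hh he => ?_, fun c hc' => ?_, ?_⟩,
    fun i hi => ?_⟩
  · obtain ⟨w, hw, rfl⟩ := F.exists_word hg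
    rw [hcode w hw]; exact hsub w hw
  · obtain ⟨w, hw, rfl⟩ := F.exists_word hg
    obtain ⟨w', hw', rfl⟩ := F.exists_word hh
    have hgen : ∀ w ∈ allWords, ev v' w ∈ Submonoid.closure {y | ∃ i < 7, v' i = y} := by
      intro w hw
      rw [ev]
      refine Submonoid.list_prod_mem _ fun y hy => ?_
      obtain ⟨i, hi, rfl⟩ := List.mem_map.1 hy
      exact Submonoid.subset_closure ⟨i, hlt w hw i hi, rfl⟩
    obtain ⟨w3, h3, e3⟩ := H.submonoid_words (mul_mem (hgen w hw) (hgen w' hw'))
    have e1 := congrArg Prod.fst e3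
    have e2 := congrArg (fun y => pcode y.2) e3
    simp only [Prod.fst_mul, Prod.snd_mul, hfst, hsnd, pcode_mul, evC_eq hc] at e1 e2
    rw [← e1, hcode w3 h3, hcode w hw, hcode w' hw', e2]
  · obtain ⟨w, hw, rfl⟩ := F.exists_word hg
    obtain ⟨w', hw', rfl⟩ := F.exists_word hh
    rw [hcode w hw, hcode w' hw'] at he
    rw [List.inj_on_of_nodup_map hnd hw hw' he]
  · obtain ⟨w, hw, rfl⟩ := List.mem_map.1 (hsup c hc')
    exact ⟨ev v w, F.ev_comm w, hcode w hw⟩
  · show code 1 = onec
    rw [← ev_nil v, hcode [] (by decide)]; rfl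
  · rw [← ev_single v i]
    exact hcode [i] (single_mem i (List.mem_range.2 hi))

namespace Coded

variable {G : Type*} [Group G] {s : G} {Ls : List ℕ} (D : Coded s Ls)

/-- An element with a given code. -/
def el (c : ℕ) : G := if h : c ∈ Ls then Classical.choose (D.surj c h) else 1

theorem el_comm (c : ℕ) : D.el c * s = s * D.el c := by
  unfold el
  split
  · exact (Classical.choose_spec (D.surj _ ‹_›)).1
  · simp

theorem code_el {c : ℕ} (hc : c ∈ Ls) : D.code (D.el c) = c := by
  rw [el, dif_pos hc]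
  exact (Classical.choose_spec (D.surj c hc)).2

theorem code_eq_iff {g h : G} (hg : g * s = s * g) (hh : h * s = s * h) :
    D.code g = D.code h ↔ g = h := ⟨D.inj _ _ hg hh, fun e => e ▸ rfl⟩

theorem eq_el {g : G} (hg : g * s = s * g) {c : ℕ} (h : D.code g = c) : g = D.el c :=
  D.inj _ _ hg (D.el_comm c) (h.trans (D.code_el (h ▸ D.mem g hg)).symm)

theorem comm_mul {g h : G} (hg : g * s = s * g) (hh : h * s = s * h) : g * h * s = s * (g * h) := by
  rw [mul_assoc, hh, ← mul_assoc, hg, mul_assoc]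

theorem comm_inv {g : G} (hg : g * s = s * g) : g⁻¹ * s = s * g⁻¹ :=
  (Commute.inv_left (show Commute g s from hg)).eq

theorem eq_one_iff {g : G} (hg : g * s = s * g) : D.code g = onec ↔ g = 1 := by
  rw [← D.code_one]
  exact D.code_eq_iff hg (by simp)

theorem com_iff {g h : G} (hg : g * s = s * g) (hh : h * s = s * h) :
    mulC (D.code g) (D.code h) = mulC (D.code h) (D.code g) ↔ g * h = h * g := by
  rw [← D.mul _ _ hg hh, ← D.mul _ _ hh hg]
  exact D.code_eq_iff (comm_mul hg hh) (comm_mul hh hg)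

theorem sq_one_iff {g : G} (hg : g * s = s * g) :
    mulC (D.code g) (D.code g) = onec ↔ g * g = 1 := by
  rw [← D.mul _ _ hg hg]
  exact D.eq_one_iff (comm_mul hg hg)

theorem el_mul {c d : ℕ} (hc : c ∈ Ls) (hd : d ∈ Ls) : D.el c * D.el d = D.el (mulC c d) := by
  refine D.eq_el (comm_mul (D.el_comm c) (D.el_comm d)) ?_
  rw [D.mul _ _ (D.el_comm c) (D.el_comm d), D.code_el hc, D.code_el hd]

theorem el_conj {k c d : ℕ} (hk : k ∈ Ls) (hc : c ∈ Ls) (hd : d ∈ Ls) (h : mulC k c = mulC d k) :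
    D.el k * D.el c * (D.el k)⁻¹ = D.el d := by
  rw [mul_inv_eq_iff_eq_mul, D.el_mul hk hc, D.el_mul hd hk, h]

theorem el_com {c d : ℕ} (hc : c ∈ Ls) (hd : d ∈ Ls) (h : mulC c d = mulC d c) :
    D.el c * D.el d = D.el d * D.el c := by rw [D.el_mul hc hd, D.el_mul hd hc, h]

theorem el_one : D.el onec = 1 := by
  have h := D.mem 1 (by simp)
  rw [D.code_one] at h
  exact (D.eq_el (g := 1) (by simp) D.code_one).symm

end Coded

end CfsgLib.ExtraThirtyTwo
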