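import Cfsg.Agent.Lib.ExtraThirtyTwo.Normal

/-!
# A normalised frame
-/

set_option autoImplicit false
set_option maxHeartbeats 400000

namespace CfsgLib.ExtraThirtyTwo

open Subgroup

variable {G : Type*} [Group G] {s a b x u : G} {Q : Subgroup G} {ns : Bool}

theorem Ext.inv_x (E : Ext s Q x u ns) : x⁻¹ = x * x :=
  inv_eq_of_mul_eq_one_right (by rw [← mul_assoc]; exact E.x3)

theorem Ext.u_pow (E : Ext s Q x u ns) (k : ℕ) : u * x ^ k * u⁻¹ = (x ^ k)⁻¹ := by
  rw [← conj_pow, E.ux, inv_pow]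

theorem Ext.pow_cube (E : Ext s Q x u ns) (k : ℕ) : x ^ k * x ^ k * x ^ k = 1 := by
  rw [← pow_add, ← pow_add, show k + k + k = 3 * k by ring, pow_mul, pow_succ, pow_two, E.x3, one_pow]

theorem Ext.pow_mem (E : Ext s Q x u ns) : ∀ (k : ℕ), ∀ q ∈ Q, x ^ k * q * (x ^ k)⁻¹ ∈ Q
  | 0, q, hq => by simpa using hq
  | k + 1, q, hq => by
    rw [pow_succ', show x * x ^ k * q * (x * x ^ k)⁻¹ = x * (x ^ k * q * (x ^ k)⁻¹) * x⁻¹ by group]
    exact E.xQ _ (E.pow_mem k q hq)

theorem Ext.shift_u (E : Ext s Q x u ns) (k : ℕ) : Ext s Q x ((x ^ k)⁻¹ * u) ns where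
  ss := E.ss
  sne := E.sne
  sQ := E.sQ
  comm := E.comm
  cardQ := E.cardQ
  cm := E.cm
  sq := E.sq
  centre := E.centre
  xs := E.xs
  x3 := E.x3
  fix := E.fix
  xQ := E.xQ
  us := ((Commute.inv_left (Commute.pow_left (show Commute x s from E.xs) k)).mul_left
    (show Commute u s from E.us)).eq
  uQ := fun q hq => by
    rw [show (x ^ k)⁻¹ = x ^ (k + k) from
      inv_eq_of_mul_eq_one_right (by rw [pow_add, ← mul_assoc, E.pow_cube]),
      show x ^ (k + k) * u * q * (x ^ (k + k) * u)⁻¹ = x ^ (k + k) * (u * q * u⁻¹) * (x ^ (k + k))⁻¹ by group]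
    exact E.pow_mem _ _ (E.uQ q hq)
  ux := by
    rw [show (x ^ k)⁻¹ * u * x * ((x ^ k)⁻¹ * u)⁻¹ = (x ^ k)⁻¹ * (u * x * u⁻¹) * x ^ k by group, E.ux,
      show (x ^ k)⁻¹ * x⁻¹ * x ^ k = (x ^ k)⁻¹ * (x⁻¹ * x ^ k) by group,
      ((Commute.self_pow x k).inv_left).eq]
    group
  u2 := by
    rw [show (x ^ k)⁻¹ * u * ((x ^ k)⁻¹ * u) = (x ^ k)⁻¹ * (u * (x ^ k)⁻¹ * u⁻¹) * (u * u) by group,
      show u * (x ^ k)⁻¹ * u⁻¹ = (u * x ^ k * u⁻¹)⁻¹ by group, E.u_pow, inv_inv, inv_mul_cancel,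
      one_mul, E.u2]
  card := E.card
  gen := fun g hg => by
    refine (closure_le (K := closure ((Q : Set G) ∪ {x, (x ^ k)⁻¹ * u}))).2 ?_ (E.gen g hg)
    have hx : x ∈ closure ((Q : Set G) ∪ {x, (x ^ k)⁻¹ * u}) := subset_closure (by simp)
    rintro y (hy | hy | hy)
    · exact subset_closure (Or.inl hy)
    · exact hy ▸ hx
    · rw [Set.mem_singleton_iff.1 hy]
      have h := mul_mem (Subgroup.pow_mem _ hx k) (subset_closure (G := G)
        (show (x ^ k)⁻¹ * u ∈ (Q : Set G) ∪ {x, (x ^ k)⁻¹ * u} by simp))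
      rwa [mul_inv_cancel_left] at h

variable [Finite G]

theorem Ext.frame (E : Ext s Q x u ns) (P : Pairs s a b x) (ha : a ∈ Q) (hb : b ∈ Q) (sw : Bool)
    (hua : u * a * u⁻¹ = if sw then b else a) (hub : u * b * u⁻¹ = if sw then a else b) :
    Frame s Q a b x u sw ns where
  rules := rules_of_top P sw ns E.u2 E.us E.ux hua hub
  comm i := by
    match i with
    | 0 => rfl
    | 1 => exact E.comm a ha
    | 2 => exact E.comm _ (E.xQ a ha)
    | 3 => exact E.comm b hb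
    | 4 => exact E.comm _ (E.xQ b hb)
    | 5 => exact E.xs
    | 6 => exact E.us
    | n + 7 => show (1 : G) * s = s * 1; simp
  mem := E.vals_mem ha hb u
  gen g hg := by
    refine (closure_le (K := closure {y | ∃ i < 7, vals s a b x u i = y})).2 ?_ (E.gen g hg)
    rintro y (hy | hy | hy)
    · obtain ⟨w, hw, rfl⟩ := E.exists_word P ha hb hy
      refine list_prod_mem fun z hz => ?_
      obtain ⟨i, hi, rfl⟩ := List.mem_map.1 hz
      exact subset_closure ⟨i, by have := core_lt w hw i hi; omega, vals_base s a b x u 1 i (by have := core_lt w hw i hi; omega)⟩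
    · exact subset_closure ⟨5, by norm_num, hy.symm⟩
    · exact subset_closure ⟨6, by norm_num, (Set.mem_singleton_iff.1 hy).symm⟩
  card := E.card

theorem Ext.uu_comm (E : Ext s Q x u ns) {q : G} (hq : q ∈ Q) : u * (u * q * u⁻¹) * u⁻¹ = q := by
  rw [show u * (u * q * u⁻¹) * u⁻¹ = u * u * q * (u * u)⁻¹ by group, E.u2]
  cases ns
  · simp
  · simp [← E.comm q hq]

/-- Some pair, or its third, is fused to the central involution. -/
def Fused (s a b : G) : Prop := IsConj s a ∨ IsConj s b ∨ IsConj s (third s a b)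

theorem Ext.exists_frame (E : Ext s Q x u ns) (P : Pairs s a b x) (ha : a ∈ Q) (hb : b ∈ Q)
    (hf : IsConj s a) :
    ∃ a' b' u' sw, Ext s Q x u' ns ∧ Frame s Q a' b' x u' sw ns ∧ Fused s a' b' := by
  obtain ⟨ha1, has, ha2⟩ := P.ne E.sne
  have hinvol : ∀ (v y : G), y * y = 1 → v * y * v⁻¹ * (v * y * v⁻¹) = 1 := fun v y hy => by
    rw [show v * y * v⁻¹ * (v * y * v⁻¹) = v * (y * y) * v⁻¹ by group, hy]; group
  obtain ⟨k, hk, z, hz, hy⟩ := E.image_cand P ha hb (E.uQ a ha) (hinvol u a ha2)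
    (fun e => ha1 (conj_eq_one_iff.1 e))
    (fun e => has (by
      have h := E.uu_comm ha
      rw [e, E.us, mul_inv_cancel_right] at h
      exact h.symm))
    (E.image_rel P.rel_a)
  have hzQ : ev (vals s a b x 1) z ∈ Q := by
    simp only [List.mem_cons, List.not_mem_nil, or_false] at hz
    rcases hz with rfl | rfl | rfl
    · rw [ev_single]; exact ha
    · rw [ev_single]; exact hb
    · rw [ev_third]; exact mul_mem (mul_mem E.sQ ha) hb
  -- the exchanging case
  have exch : ∀ c, c ∈ Q → Pairs s a c x → u * a * u⁻¹ = x ^ k * c * (x ^ k)⁻¹ →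
      ∃ a' b' u' sw, Ext s Q x u' ns ∧ Frame s Q a' b' x u' sw ns ∧ Fused s a' b' := by
    intro c hc Pc hy
    have e2 : u * (x ^ (2 * k) * a * (x ^ (2 * k))⁻¹) * u⁻¹ = x ^ (2 * k) * c * (x ^ (2 * k))⁻¹ := by
      rw [show u * (x ^ (2 * k) * a * (x ^ (2 * k))⁻¹) * u⁻¹ =
        u * x ^ (2 * k) * u⁻¹ * (u * a * u⁻¹) * (u * x ^ (2 * k) * u⁻¹)⁻¹ by group, E.u_pow, hy]
      have h3 : (x ^ (2 * k))⁻¹ = x ^ k := inv_eq_of_mul_eq_one_right (by
        rw [two_mul, pow_add, E.pow_cube])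
      have h4 : x ^ (2 * k) = x ^ k * x ^ k := by rw [two_mul, pow_add]
      rw [inv_inv, h3, h4]; group
    refine ⟨_, _, u, true, E, E.frame (Pc.shift (2 * k) E.xs) (E.pow_mem _ _ ha) (E.pow_mem _ _ hc) true
      e2 ?_, Or.inl (hf.trans (isConj_iff.2 ⟨_, rfl⟩))⟩
    rw [← e2]
    exact E.uu_comm (E.pow_mem _ _ ha)
  obtain ⟨V1, -, -, V4, -⟩ := P.variants
  simp only [List.mem_cons, List.not_mem_nil, or_false] at hz
  rcases hz with rfl | rfl | rfl
  · rw [ev_single] at hy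
    have E' := E.shift_u k
    set u₁ := (x ^ k)⁻¹ * u with hu₁
    have hua : u₁ * a * u₁⁻¹ = a := by
      rw [hu₁, show (x ^ k)⁻¹ * u * a * ((x ^ k)⁻¹ * u)⁻¹ = (x ^ k)⁻¹ * (u * a * u⁻¹) * x ^ k by group, hy]
      show (x ^ k)⁻¹ * (x ^ k * a * (x ^ k)⁻¹) * x ^ k = a
      group
    obtain ⟨hab, -, hb1⟩ := P.commutes
    obtain ⟨hb1', hbs, hb2⟩ := P.variants.1.ne E.sne
    obtain ⟨l, hl, z, hz, hy'⟩ := E'.image_cand P ha hb (E'.uQ b hb) (hinvol u₁ b hb2)
      (fun e => hb1' (conj_eq_one_iff.1 e))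
      (fun e => hbs (by
        have h := E'.uu_comm hb
        rw [e, E'.us, mul_inv_cancel_right] at h
        exact h.symm))
      (E'.image_rel P.variants.1.rel_a)
    have e1 : ev (vals s a b x 1) [1] = a := ev_single _ 1
    have e12 : ev (vals s a b x 1) [1, 2] = a * (x * a * x⁻¹) := by simp [ev, vals]
    have hcy : ev (vals s a b x 1) (cxw l z) = u₁ * b * u₁⁻¹ := by rw [P.ev_cxw, hy']
    obtain ⟨hm1, hm2⟩ := partner_mem l (List.mem_range.2 hl) z hz
    obtain ⟨hl0, hz1⟩ := partner_check l (List.mem_range.2 hl) z hz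
      (E'.ev_inj P hm1 hm2 (by
        rw [P.ev_nf, P.ev_nf, ev_append, ev_append, hcy, e1]
        conv_lhs => rw [← hua]
        conv_rhs => arg 2; rw [← hua]
        exact ((Commute.conj_iff u₁).2 hab).eq))
      (fun h => E.sne (by
        have hu1 : u₁ * (x * a * x⁻¹) * u₁⁻¹ = a * (x * a * x⁻¹) := by
          rw [show u₁ * (x * a * x⁻¹) * u₁⁻¹ = u₁ * x * u₁⁻¹ * (u₁ * a * u₁⁻¹) * (u₁ * x * u₁⁻¹)⁻¹ by group,
            E'.ux, hua, show x⁻¹ * a * x⁻¹⁻¹ = x * x * a * (x * x)⁻¹ by rw [← E.inv_x]]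
          exact P.rel_a
        have h' := congrArg (fun y => u₁ * y * u₁⁻¹) hb1
        have h1 := congrArg (ev (vals s a b x 1)) h
        rw [P.ev_nf, P.ev_nf, ev_append, ev_append, hcy, e12, ← hu1] at h1
        have h2 : u₁ * (x * a * x⁻¹ * b) * u₁⁻¹ = u₁ * (s * (x * a * x⁻¹ * b)) * u₁⁻¹ := by
          rw [← hb1]
          calc u₁ * (x * a * x⁻¹ * b) * u₁⁻¹ = u₁ * (x * a * x⁻¹) * u₁⁻¹ * (u₁ * b * u₁⁻¹) := by group
            _ = u₁ * b * u₁⁻¹ * (u₁ * (x * a * x⁻¹) * u₁⁻¹) := h1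
            _ = _ := by group
        exact mul_eq_right.1 (mul_left_cancel (mul_right_cancel h2)).symm))
    subst hl0
    simp only [pow_zero, one_mul, inv_one, mul_one] at hy'
    simp only [List.mem_cons, List.not_mem_nil, or_false] at hz
    rcases hz with rfl | rfl | rfl
    · exact absurd rfl hz1
    · rw [ev_single] at hy'
      exact ⟨a, b, u₁, false, E', E'.frame P ha hb false hua hy', Or.inl hf⟩
    · rw [ev_third] at hy'
      obtain ⟨-, V2, -, -, -⟩ := P.variants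
      refine ⟨b, third s a b, u₁, true, E', E'.frame V2 hb (mul_mem (mul_mem E.sQ ha) hb) true hy'
        (by rw [← hy']; exact E'.uu_comm hb), Or.inr (Or.inr ?_)⟩
      have e : third s b (third s a b) = a := by
        show s * b * (s * a * b) = a
        rw [← mul_assoc, ← mul_assoc, mul_assoc s b s, E.comm b hb, ← mul_assoc, E.ss, one_mul,
          ← hab, mul_assoc, hb2, mul_one]
      rw [e]; exact hf
  · rw [ev_single] at hy; exact exch b hb P hy
  · rw [ev_third] at hy; exact exch _ (mul_mem (mul_mem E.sQ ha) hb) V4 hy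

theorem Ext.not_ns (E : Ext s Q x u true) {sw : Bool} (F : Frame s Q a b x u sw true)
    {g : G} (htQ : g * s * g⁻¹ ∈ Q) (hts : g * s * g⁻¹ ≠ s) : False := by
  have P := F.pairs
  have ha : a ∈ Q := F.mem 1 (by norm_num)
  have hb : b ∈ Q := F.mem 3 (by norm_num)
  have hev : ∀ w ∈ coreWords, ev (vals s a b x u) w = ev (vals s a b x 1) w := fun w hw =>
    ev_congr fun i hi => vals_base s a b x u 1 i (by have := core_lt w hw i hi; omega)
  have hmQ : ∀ w ∈ coreWords, ev (vals s a b x u) w ∈ Q := fun w hw => by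
    refine list_prod_mem fun y hy => ?_
    obtain ⟨i, hi, rfl⟩ := List.mem_map.1 hy
    exact F.mem i (core_lt w hw i hi)
  have hxQ : x ∉ Q := fun hx => by
    have h1 : x = 1 := by
      rcases E.fix x hx rfl with h | h
      · exact h
      · have h3 := E.x3
        rw [h, E.ss, one_mul] at h3
        exact absurd h3 E.sne
    rcases E.fix a ha (by rw [h1]; simp) with h | h
    · exact (P.ne E.sne).1 h
    · exact (P.ne E.sne).2.1 h
  -- all involutions of the centralizer lie in the normal subgroup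
  have key : ∀ h : G, h * s = s * h → h * h = 1 → h ∈ Q := by
    intro h hh h2
    obtain ⟨w, hw, rfl⟩ := F.exists_word hh
    obtain ⟨q, hq, r, hr, rfl⟩ := allWords_split w hw
    set e := ev (vals s a b x u) q with he
    rw [ev_append] at h2 ⊢
    have hodd : ∀ i : ℕ, e * x ^ i * (e * x ^ i) = 1 → x ^ (i + i) ∈ Q := fun i hi => by
      have h1 : x ^ (i + i) = (e * (x ^ i * e * (x ^ i)⁻¹))⁻¹ := eq_inv_of_mul_eq_one_right (by
        rw [← hi, pow_add]; group)
      rw [h1]; exact inv_mem (mul_mem (hmQ q hq) (E.pow_mem i _ (hmQ q hq)))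
    have heven : ∀ i : ℕ, e * (x ^ i * u) * (e * (x ^ i * u)) = 1 → False := fun i hi => by
      obtain ⟨w', hw', hwe⟩ := E.exists_word P ha hb (E.pow_mem i _ (hmQ q hq))
      obtain ⟨h3, h4⟩ := square_check sw w' hw'
      refine h4 (E.ev_inj P h3 (by decide) ?_)
      rw [← hev _ h3, F.rules.norm, ev_append, ev_append, ev_append, hev _ hw', hwe, ev_single, ev_nil]
      show x ^ i * e * (x ^ i)⁻¹ * u * (x ^ i * e * (x ^ i)⁻¹) * u = 1
      have h5 : (x ^ i)⁻¹ * u = x ^ i * x ^ i * u := by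
        congr 1
        exact inv_eq_of_mul_eq_one_right (by rw [← mul_assoc, E.pow_cube])
      have h6 : u * (x ^ i)⁻¹ = x ^ i * u := by
        rw [← mul_inv_eq_iff_eq_mul, show u * (x ^ i)⁻¹ * u⁻¹ = (u * x ^ i * u⁻¹)⁻¹ by group, E.u_pow, inv_inv]
      have h7 : x ^ i * (e * (x ^ i * u) * (e * (x ^ i * u))) * (x ^ i)⁻¹ = 1 := by rw [hi]; group
      rw [← h7]
      calc x ^ i * e * (x ^ i)⁻¹ * u * (x ^ i * e * (x ^ i)⁻¹) * u
          = x ^ i * e * ((x ^ i)⁻¹ * u) * (x ^ i * e) * ((x ^ i)⁻¹ * u) := by group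
        _ = x ^ i * e * (x ^ i * x ^ i * u) * (x ^ i * e) * (x ^ i * x ^ i * u) := by rw [h5]
        _ = x ^ i * e * (x ^ i * (x ^ i * u * x ^ i)) * e * (x ^ i * x ^ i * u) := by group
        _ = x ^ i * e * (x ^ i * u) * e * (x ^ i * x ^ i * u) := by
            conv_lhs => rw [← h6, mul_assoc u, inv_mul_cancel, mul_one]
        _ = x ^ i * e * (x ^ i * u) * e * (x ^ i * (u * (x ^ i)⁻¹)) := by rw [h6, mul_assoc (x ^ i) (x ^ i) u]
        _ = _ := by group
    simp only [tails, List.mem_cons, List.not_mem_nil, or_false] at hr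
    have e5 : ev (vals s a b x u) [5] = x ^ 1 := by rw [ev_single, pow_one]; rfl
    have e55 : ev (vals s a b x u) [5, 5] = x ^ 2 := by simp [ev, vals, pow_two]
    have e6 : ev (vals s a b x u) [6] = x ^ 0 * u := by rw [ev_single, pow_zero, one_mul]; rfl
    have e56 : ev (vals s a b x u) [5, 6] = x ^ 1 * u := by simp [ev, vals]
    have e556 : ev (vals s a b x u) [5, 5, 6] = x ^ 2 * u := by simp [ev, vals, pow_two, mul_assoc]
    rcases hr with rfl | rfl | rfl | rfl | rfl | rfl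
    · rw [ev_nil, mul_one]; exact hmQ q hq
    · rw [e5] at h2
      have h3 := hodd 1 h2
      refine absurd ?_ hxQ
      have h4 := mul_mem h3 h3
      rwa [← pow_add, show (1 + 1) + (1 + 1) = 3 + 1 from rfl, pow_succ, show x ^ 3 = 1 by rw [pow_succ, pow_two, E.x3], one_mul] at h4
    · rw [e55] at h2
      have h3 := hodd 2 h2
      refine absurd ?_ hxQ
      rwa [show 2 + 2 = 3 + 1 from rfl, pow_succ, show x ^ 3 = 1 by rw [pow_succ, pow_two, E.x3], one_mul] at h3
    · rw [e6] at h2; exact (heven 0 h2).elim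
    · rw [e56] at h2; exact (heven 1 h2).elim
    · rw [e556] at h2; exact (heven 2 h2).elim
  set t := g * s * g⁻¹ with htd
  obtain ⟨w, hw, hwt⟩ := E.exists_word P ha hb htQ
  have ht2 : t * t = 1 := by rw [htd, show g * s * g⁻¹ * (g * s * g⁻¹) = g * (s * s) * g⁻¹ by group, E.ss]; group
  obtain ⟨p, hp, r, hr, hpp, hrr, hpw, hrw, hpr⟩ := pair_check w hw
    (E.ev_inj P (nf_sq w hw) (by decide) (by rw [P.ev_nf, ev_append, hwt, ht2, ev_nil]))
    (fun e => E.sne (conj_eq_one_iff.1 (htd.symm.trans (hwt.symm.trans (by rw [e, ev_nil])))))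
    (fun e => hts (hwt.symm.trans (by rw [e, ev_zero])))
  have sq1 : ∀ l, nf (l ++ l) = [] → ev (vals s a b x 1) l * ev (vals s a b x 1) l = 1 := fun l h => by
    rw [← ev_append, ← P.ev_nf, h, ev_nil]
  have com : ∀ l, nf (l ++ w) = nf (w ++ l) → ev (vals s a b x 1) l * t = t * ev (vals s a b x 1) l :=
    fun l h => by rw [← hwt, ← ev_append, ← ev_append, ← P.ev_nf, h, P.ev_nf]
  have pr : ev (vals s a b x 1) p * ev (vals s a b x 1) r =
      s * (ev (vals s a b x 1) r * ev (vals s a b x 1) p) := by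
    rw [← ev_append, ← P.ev_nf, hpr, P.ev_nf, ev_append, ev_append, ev_zero, mul_assoc]
  set c := fun y : G => g⁻¹ * y * g with hc
  have cQ : ∀ y, y * y = 1 → y * t = t * y → c y ∈ Q := fun y hy hyt => key _ (by
    calc g⁻¹ * y * g * s = g⁻¹ * (y * t) * g := by rw [htd]; group
      _ = g⁻¹ * (t * y) * g := by rw [hyt]
      _ = _ := by simp only [hc]; rw [htd]; group) (by
    rw [show c y * c y = g⁻¹ * (y * y) * g by rw [hc]; group, hy]; group)
  have hP := cQ _ (sq1 p hpp) (com p hpw)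
  have hR := cQ _ (sq1 r hrr) (com r hrw)
  have hPR : c (ev (vals s a b x 1) p) * c (ev (vals s a b x 1) r) =
      g⁻¹ * s * g * (c (ev (vals s a b x 1) r) * c (ev (vals s a b x 1) p)) := by
    calc _ = g⁻¹ * (ev (vals s a b x 1) p * ev (vals s a b x 1) r) * g := by rw [hc]; group
      _ = _ := by rw [pr, hc]; group
  rcases E.cm _ hP _ hR with h | h
  · rw [hPR] at h
    have h1 : g⁻¹ * s * g = 1 := mul_eq_right.1 h
    exact E.sne (by rw [show s = g * (g⁻¹ * s * g) * g⁻¹ by group, h1]; group)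
  · rw [hPR, E.comm _ (mul_mem hR hP)] at h
    have h1 : g⁻¹ * s * g = s := mul_right_cancel h
    refine hts ?_
    calc g * s * g⁻¹ = g * (g⁻¹ * s * g) * g⁻¹ := by rw [h1]
      _ = s := by group

/-- A frame with an involution outside. -/
theorem exists_normal_frame {G : Type*} [Group G] [Finite G]
    (s : G) (hs : orderOf s = 2) (L : Subgroup G) (hL : L = centralizer ({s} : Set G))
    (Q : Subgroup G) (hQ : Q = (Cfsg.pCore 2 L).map L.subtype)
    (hQex : Cfsg.IsExtraspecial 2 Q) (hQcard : Nat.card Q = 32)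
    (e : L ⧸ Cfsg.pCore 2 L ≃* Equiv.Perm (Fin 3))
    (X : Sylow 3 L) (hCQX : Q ⊓ centralizer (((X : Subgroup L).map L.subtype : Subgroup G) : Set G) = zpowers s)
    (hnwc : ∃ g : G, g * s * g⁻¹ ∈ Q ∧ g * s * g⁻¹ ≠ s) :
    ∃ a b x u sw, Frame s Q a b x u sw false ∧ Fused s a b ∧ s * s = 1 ∧ s ≠ 1 := by
  obtain ⟨x, u, ns, E⟩ := exists_ext s hs L hL Q hQ hQex hQcard e X hCQX
  obtain ⟨g, hgQ, hgs⟩ := hnwc
  obtain ⟨a, b, p, hp, hap, ha, hb, P⟩ := E.exists_pairs hgQ
    (by rw [show g * s * g⁻¹ * (g * s * g⁻¹) = g * (s * s) * g⁻¹ by group, E.ss]; group)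
    (fun h => E.sne (conj_eq_one_iff.1 h)) hgs
  have hta : IsConj (g * s * g⁻¹) a := by
    rcases hp with rfl | rfl
    · rw [hap, mul_one]
    · have h := P ([4, 1], [0, 1, 4]) (by decide)
      simp only [ev, vals, List.map_cons, List.map_nil, List.prod_cons, List.prod_nil, mul_one] at h
      refine (isConj_iff.2 ⟨x * b * x⁻¹, ?_⟩).symm
      rw [h, ← mul_assoc, mul_inv_cancel_right, hap, ← mul_assoc, ← E.comm _ hgQ, mul_assoc, E.ss, mul_one]
  obtain ⟨a', b', u', sw, E', F, hF⟩ := E.exists_frame P ha hb ((isConj_iff.2 ⟨g, rfl⟩).trans hta)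
  cases ns
  · exact ⟨a', b', x, u', sw, F, hF, E.ss, E.sne⟩
  · exact (E'.not_ns F hgQ hgs).elim

end CfsgLib.ExtraThirtyTwo
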