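import Mathlib

/-!
# Two-subgroups grow inside their normalizers
-/

set_option autoImplicit false

namespace CfsgLib.ExtraThirtyTwo

variable {G : Type*} [Group G] [Finite G]

theorem exists_normalizing {R K : Subgroup G} (hRK : R ≤ K) {k : ℕ} (hR : Nat.card R = 2 ^ k)
    (h : 2 ^ (k + 1) ∣ Nat.card K) :
    ∃ n ∈ K, n ∉ R ∧ (∀ p ∈ R, n * p * n⁻¹ ∈ R) ∧ ∀ p ∈ R, n⁻¹ * p * n ∈ R := by
  haveI : Fact (Nat.Prime 2) := ⟨Nat.prime_two⟩
  have hc : Nat.card (R.subgroupOf K) = 2 ^ k := by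
    rw [Nat.card_congr (Subgroup.subgroupOfEquivOfLe hRK).toEquiv, hR]
  obtain ⟨T, hT, hle⟩ := Sylow.exists_subgroup_card_pow_succ (p := 2) (n := k) h hc
  have hidx : (R.subgroupOf K).relIndex T = 2 := by
    have h := Subgroup.relIndex_mul_relIndex ⊥ _ T bot_le hle
    rw [Subgroup.relIndex_bot_left, Subgroup.relIndex_bot_left, hc, hT, pow_succ] at h
    exact Nat.eq_of_mul_eq_mul_left (pow_pos (by norm_num : 0 < 2) k) h
  have hnorm : ((R.subgroupOf K).subgroupOf T).Normal := Subgroup.normal_of_index_eq_two hidx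
  have hnot : ¬ T ≤ R.subgroupOf K := fun h => by
    have h1 := Subgroup.card_le_of_le h
    rw [hc, hT, pow_succ] at h1
    have := pow_pos (by norm_num : 0 < 2) k
    omega
  obtain ⟨n, hnT, hn⟩ := SetLike.not_le_iff_exists.1 hnot
  have key : ∀ m ∈ T, ∀ p ∈ R, (m : G) * p * (m : G)⁻¹ ∈ R := fun m hm p hp =>
    hnorm.conj_mem ⟨⟨p, hRK hp⟩, hle (show (⟨p, hRK hp⟩ : K) ∈ R.subgroupOf K from hp)⟩ hp ⟨m, hm⟩
  refine ⟨n, n.2, hn, key n hnT, fun p hp => ?_⟩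
  simpa using key n⁻¹ (inv_mem hnT) p hp

end CfsgLib.ExtraThirtyTwo
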