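import Cfsg.Agent.Lib.ExtraThirtyTwo.Words

/-!
# Frames: coordinates on a group of shape `2^{1+4}.S₃` and their changes
-/

set_option autoImplicit false

namespace CfsgLib.ExtraThirtyTwo

variable {G : Type*} [Group G]

/-- The values of the generators. -/
def vals (s a b x u : G) : ℕ → G
  | 0 => s
  | 1 => a
  | 2 => x * a * x⁻¹
  | 3 => b
  | 4 => x * b * x⁻¹
  | 5 => x
  | 6 => u
  | _ => 1

/-- The relations of the pairs. -/
def Pairs (s a b x : G) : Prop := Holds (vals s a b x 1) baseRules

theorem vals_base (s a b x u u' : G) : ∀ i < 6, vals s a b x u i = vals s a b x u' i := by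
  intro i hi
  interval_cases i <;> rfl

theorem base_lt : ∀ r ∈ baseRules, (∀ i ∈ r.1, i < 6) ∧ ∀ i ∈ r.2, i < 6 := by decide

theorem ev_congr {v v' : ℕ → G} {l : List ℕ} (h : ∀ i ∈ l, v i = v' i) : ev v l = ev v' l := by
  rw [ev, ev, List.map_congr_left h]

theorem core_lt : ∀ w ∈ coreWords, ∀ i ∈ w, i < 5 := by decide

theorem Pairs.holds {s a b x : G} (h : Pairs s a b x) (u : G) : Holds (vals s a b x u) baseRules := fun r hr => by
  rw [ev_congr fun i hi => vals_base s a b x u 1 i ((base_lt r hr).1 i hi),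
    ev_congr fun i hi => vals_base s a b x u 1 i ((base_lt r hr).2 i hi)]
  exact h r hr

/-- Transport of the relations along a substitution of words. -/
theorem Pairs.transfer {s a b x : G} (h : Pairs s a b x) (σ : ℕ → List ℕ) {y z : G}
    (hσ : ∀ i < 6, vals s y z x 1 i = ev (vals s a b x 1) (σ i))
    (hred : ∀ r ∈ baseRules, red baseRules 40 (r.1.flatMap σ) = red baseRules 40 (r.2.flatMap σ)) :
    Pairs s y z x := fun r hr => by
  have key : ∀ l : List ℕ, (∀ i ∈ l, i < 6) → ev (vals s y z x 1) l = ev (vals s a b x 1) (l.flatMap σ) := by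
    intro l
    induction l with
    | nil => intro _; rfl
    | cons i l ih =>
      intro hl
      rw [ev_cons, List.flatMap_cons, ev_append, hσ i (hl i List.mem_cons_self),
        ih fun j hj => hl j (List.mem_cons_of_mem _ hj)]
  rw [key _ (base_lt r hr).1, key _ (base_lt r hr).2]
  exact h.eq_of_red (hred r hr)

/-- Conjugation by a power of `x`. -/
theorem ev_conj (k : G) (v : ℕ → G) : ∀ l : List ℕ, ev (fun i => k * v i * k⁻¹) l = k * ev v l * k⁻¹
  | [] => by simp [ev_nil]
  | i :: l => by rw [ev_cons, ev_cons, ev_conj k v l]; group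

theorem Pairs.conj {s a b x : G} (h : Pairs s a b x) {k : G} (hx : k * x * k⁻¹ = x) (hs : k * s * k⁻¹ = s) :
    Pairs s (k * a * k⁻¹) (k * b * k⁻¹) x := fun r hr => by
  have e : ∀ i, vals s (k * a * k⁻¹) (k * b * k⁻¹) x 1 i = k * vals s a b x 1 i * k⁻¹ := by
    intro i
    match i with
    | 0 => exact hs.symm
    | 1 => rfl
    | 2 => show x * (k * a * k⁻¹) * x⁻¹ = k * (x * a * x⁻¹) * k⁻¹
           conv_lhs => rw [← hx]
           group
    | 3 => rfl
    | 4 => show x * (k * b * k⁻¹) * x⁻¹ = k * (x * b * x⁻¹) * k⁻¹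
           conv_lhs => rw [← hx]
           group
    | 5 => exact hx.symm
    | 6 => show (1 : G) = k * 1 * k⁻¹
           group
    | n + 7 => show (1 : G) = k * 1 * k⁻¹
               group
  rw [ev_congr fun i _ => e i, ev_congr (l := r.2) fun i _ => e i, ev_conj, ev_conj, h r hr]

/-- The word of `x^k w x^{-k}`. -/
def cxw (k : ℕ) (w : List ℕ) : List ℕ := List.replicate k 5 ++ w ++ List.replicate (3 * k - k) 5

theorem Pairs.x_cube {s a b x : G} (h : Pairs s a b x) : x * x * x = 1 := by
  have := h ([5, 5, 5], []) (by decide)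
  simpa [ev, vals, mul_assoc] using this

theorem Pairs.ev_cxw {s a b x : G} (h : Pairs s a b x) (k : ℕ) (w : List ℕ) (u : G) :
    ev (vals s a b x u) (cxw k w) = x ^ k * ev (vals s a b x u) w * (x ^ k)⁻¹ := by
  have hr : ∀ n, ev (vals s a b x u) (List.replicate n 5) = x ^ n := fun n => by
    simp [ev, vals, List.map_replicate, List.prod_replicate]
  rw [cxw, ev_append, ev_append, hr, hr]
  congr 1
  rw [eq_inv_iff_mul_eq_one, ← pow_add, show 3 * k - k + k = 3 * k by omega, pow_mul, pow_succ, pow_two,
    h.x_cube, one_pow]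

/-- The third pair. -/
def third (s a b : G) : G := s * a * b

theorem ev_third {s a b x u : G} : ev (vals s a b x u) [0, 1, 3] = third s a b := by
  simp [ev, vals, third, mul_assoc]

theorem ev_one {s a b x u : G} : ev (vals s a b x u) [1] = a ∧ ev (vals s a b x u) [3] = b := by
  simp [ev, vals]

/-- The substitution for a change of pairs. -/
def pairSubst (y z : List ℕ) : ℕ → List ℕ
  | 0 => [0]
  | 1 => y
  | 2 => cxw 1 y
  | 3 => z
  | 4 => cxw 1 z
  | 5 => [5]
  | _ => []

theorem Pairs.change {s a b x : G} (h : Pairs s a b x) (y z : List ℕ)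
    (hred : ∀ r ∈ baseRules,
      red baseRules 40 (r.1.flatMap (pairSubst y z)) = red baseRules 40 (r.2.flatMap (pairSubst y z))) :
    Pairs s (ev (vals s a b x 1) y) (ev (vals s a b x 1) z) x := by
  refine h.transfer (pairSubst y z) (fun i hi => ?_) hred
  interval_cases i <;> simp only [pairSubst]
  · simp [ev, vals]
  · rfl
  · rw [h.ev_cxw, pow_one]; rfl
  · rfl
  · rw [h.ev_cxw, pow_one]; rfl
  · simp [ev, vals]

theorem change_checks :
    ∀ p ∈ [([3], [1]), ([3], [0, 1, 3]), ([0, 1, 3], [3]), ([1], [0, 1, 3]), ([0, 1, 3], [1])],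
      ∀ r ∈ baseRules, red baseRules 40 (r.1.flatMap (pairSubst p.1 p.2)) =
        red baseRules 40 (r.2.flatMap (pairSubst p.1 p.2)) := by
  decide +kernel

theorem Pairs.variants {s a b x : G} (h : Pairs s a b x) :
    Pairs s b a x ∧ Pairs s b (third s a b) x ∧ Pairs s (third s a b) b x ∧ Pairs s a (third s a b) x ∧
      Pairs s (third s a b) a x := by
  obtain ⟨e1, e3⟩ := ev_one (s := s) (a := a) (b := b) (x := x) (u := 1)
  have e := ev_third (s := s) (a := a) (b := b) (x := x) (u := 1)
  refine ⟨?_, ?_, ?_, ?_, ?_⟩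
  · have := h.change [3] [1] (change_checks ([3], [1]) (by simp)); rwa [e1, e3] at this
  · have := h.change [3] [0, 1, 3] (change_checks ([3], [0, 1, 3]) (by simp)); rwa [e, e3] at this
  · have := h.change [0, 1, 3] [3] (change_checks ([0, 1, 3], [3]) (by simp)); rwa [e, e3] at this
  · have := h.change [1] [0, 1, 3] (change_checks ([1], [0, 1, 3]) (by simp)); rwa [e, e1] at this
  · have := h.change [0, 1, 3] [1] (change_checks ([0, 1, 3], [1]) (by simp)); rwa [e, e1] at this

/-- A frame of the centralizer of `s`. -/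
structure Frame (s : G) (Q : Subgroup G) (a b x u : G) (sw ns : Bool) : Prop where
  rules : Holds (vals s a b x u) (allRules sw ns)
  comm : ∀ i, vals s a b x u i * s = s * vals s a b x u i
  mem : ∀ i < 5, vals s a b x u i ∈ Q
  gen : ∀ g : G, g * s = s * g → g ∈ Subgroup.closure {y | ∃ i < 7, vals s a b x u i = y}
  card : Nat.card (Subgroup.centralizer ({s} : Set G)) = 192

theorem base_sub (sw ns : Bool) : ∀ r ∈ baseRules, r ∈ allRules sw ns := fun r hr => by
  rw [allRules]; exact List.mem_append_left _ hr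

theorem Frame.pairs {s a b x u : G} {Q : Subgroup G} {sw ns : Bool} (F : Frame s Q a b x u sw ns) :
    Pairs s a b x := fun r hr => by
  rw [ev_congr fun i hi => vals_base s a b x 1 u i ((base_lt r hr).1 i hi),
    ev_congr fun i hi => vals_base s a b x 1 u i ((base_lt r hr).2 i hi)]
  exact F.rules r (base_sub sw ns r hr)

/-- The relations of `u` beyond those of the pairs. -/
theorem rules_of_top {s a b x u : G} (h : Pairs s a b x) (sw ns : Bool)
    (hu2 : u * u = if ns then s else 1) (hus : u * s = s * u) (hux : u * x * u⁻¹ = x⁻¹)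
    (hua : u * a * u⁻¹ = if sw then b else a) (hub : u * b * u⁻¹ = if sw then a else b) :
    Holds (vals s a b x u) (allRules sw ns) := by
  have hx3 := h.x_cube
  have hb := h.holds u
  have hxi : x⁻¹ = x * x := inv_eq_of_mul_eq_one_right (by rw [← mul_assoc]; exact hx3)
  have hux' : u * x = x * x * u := by rw [← hxi, ← mul_inv_eq_iff_eq_mul]; exact hux
  have e2a : x * x * a * (x * x)⁻¹ = a * (x * a * x⁻¹) := by
    have h2 := hb.eq_of_red (n := 20) (l := [5, 5, 1, 5]) (m := [1, 2]) (by decide)
    simp only [ev, vals, List.map_cons, List.map_nil, List.prod_cons, List.prod_nil, mul_one] at h2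
    rw [← h2, show (x * x)⁻¹ = x by rw [← hxi, inv_inv]]
    group
  have e2b : x * x * b * (x * x)⁻¹ = b * (x * b * x⁻¹) := by
    have h2 := hb.eq_of_red (n := 20) (l := [5, 5, 3, 5]) (m := [3, 4]) (by decide)
    simp only [ev, vals, List.map_cons, List.map_nil, List.prod_cons, List.prod_nil, mul_one] at h2
    rw [← h2, show (x * x)⁻¹ = x by rw [← hxi, inv_inv]]
    group
  have hconj : ∀ y y' : G, u * y * u⁻¹ = y' →
      u * (x * y * x⁻¹) = x * x * y' * (x * x)⁻¹ * u := fun y y' e => by
    rw [← mul_inv_eq_iff_eq_mul, show u * (x * y * x⁻¹) * u⁻¹ = u * x * u⁻¹ * (u * y * u⁻¹) * (u * x * u⁻¹)⁻¹ by group,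
      e, hux, hxi]
  intro r hr
  rw [allRules, List.mem_append] at hr
  rcases hr with hr | hr
  · exact hb r hr
  cases sw <;> simp only [topRules, Bool.false_eq_true, if_false, if_true, List.cons_append, List.nil_append,
      List.mem_cons, List.not_mem_nil, or_false] at hr <;>
    simp only [Bool.false_eq_true, if_false, if_true] at hua hub <;>
    rcases hr with rfl | rfl | rfl | rfl | rfl | rfl | rfl <;>
    simp only [ev, vals, List.map_cons, List.map_nil, List.prod_cons, List.prod_nil, mul_one, ← mul_assoc]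
  all_goals first
    | exact hus
    | exact hux'
    | (cases ns <;> simpa [ev, vals] using hu2)
    | exact mul_inv_eq_iff_eq_mul.1 hua
    | exact mul_inv_eq_iff_eq_mul.1 hub
    | (have := hconj _ _ hua; simp only [e2a, e2b] at this; simpa [mul_assoc] using this)
    | (have := hconj _ _ hub; simp only [e2a, e2b] at this; simpa [mul_assoc] using this)

end CfsgLib.ExtraThirtyTwo
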