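import Cfsg.Agent.Lib.ExtraThirtyTwo.Setup2

/-!
# Normal forms exhaust what the generators generate
-/

set_option autoImplicit false

namespace CfsgLib.ExtraThirtyTwo

variable {K : Type*} [Group K] {v : ℕ → K} {sw ns : Bool} (h : Holds v (allRules sw ns))

include h in
theorem Holds.ev_nfR (l : List ℕ) : ev v (nf l) = ev v l :=
  (h.mono (base_sub sw ns)).norm 100 l

include h in
theorem Holds.core_mul : ∀ p : List ℕ, (∀ i ∈ p, i < 5) → ∀ q ∈ coreWords,
    ∃ w ∈ coreWords, ev v w = ev v p * ev v q := by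
  intro p
  induction p with
  | nil => exact fun _ q hq => ⟨q, hq, by rw [ev_nil, one_mul]⟩
  | cons i p ih =>
    intro hp q hq
    obtain ⟨w, hw, e⟩ := ih (fun j hj => hp j (List.mem_cons_of_mem _ hj)) q hq
    exact ⟨_, nf_cons w hw i (List.mem_range.2 (hp i List.mem_cons_self)),
      by rw [h.ev_nfR, ev_cons, ev_cons, e, mul_assoc]⟩

include h in
theorem Holds.step_words : ∀ k < 7, ∀ w ∈ allWords, ∃ w' ∈ allWords, ev v w' = v k * ev v w := by
  intro k hk w hw
  obtain ⟨q, hq, r, hr, rfl⟩ := allWords_split w hw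
  rcases (show k < 5 ∨ k = 5 ∨ k = 6 by omega) with hk5 | hk56
  · refine ⟨nf (k :: q) ++ r, allWords_join _ (nf_cons q hq k (List.mem_range.2 hk5)) r hr, ?_⟩
    rw [ev_append, h.ev_nfR, ev_cons, ev_append, mul_assoc]
  have hk' : k ∈ [5, 6] := by simpa using hk56
  obtain ⟨q', hq', e⟩ : ∃ q' ∈ coreWords, ev v (k :: q) = ev v q' * v k := by
    rcases hk56 with rfl | rfl
    · obtain ⟨q', hq', e⟩ := pass_x q hq
      exact ⟨q', hq', by rw [← h.ev_nfR, e, ev_append, ev_single]⟩
    · obtain ⟨q', hq', e⟩ := pass_u sw ns q hq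
      exact ⟨q', hq', by rw [← h.norm 100 (6 :: q), e, ev_append, ev_single]⟩
  obtain ⟨p, hp, r', hr', e'⟩ := allWords_split _ (tail_step sw ns k hk' r hr)
  obtain ⟨w', hw', ew⟩ := h.core_mul q' (core_lt q' hq') p hp
  refine ⟨w' ++ r', allWords_join _ hw' r' hr', ?_⟩
  have e1 : ev v (k :: r) = ev v p * ev v r' := by rw [← h.norm 100 (k :: r), e', ev_append]
  rw [ev_append, ew, mul_assoc, ← e1, ev_cons, ← mul_assoc, ← e, ev_cons, ev_append, mul_assoc]

include h in
theorem Holds.submonoid_words {g : K} (hg : g ∈ Submonoid.closure {y | ∃ i < 7, v i = y}) :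
    ∃ w ∈ allWords, ev v w = g := by
  suffices ∀ w ∈ allWords, ∃ w' ∈ allWords, ev v w' = g * ev v w by
    obtain ⟨w', hw', e⟩ := this [] (by decide)
    exact ⟨w', hw', by rw [e, ev_nil, mul_one]⟩
  induction hg using Submonoid.closure_induction with
  | mem y hy =>
    obtain ⟨i, hi, rfl⟩ := hy
    exact h.step_words i hi
  | one => exact fun w hw => ⟨w, hw, by rw [one_mul]⟩
  | mul p q _ _ hp hq =>
    intro w hw
    obtain ⟨w1, h1, e1⟩ := hq w hw
    obtain ⟨w2, h2, e2⟩ := hp w1 h1
    exact ⟨w2, h2, by rw [e2, e1, mul_assoc]⟩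

include h in
theorem Holds.closure_words [Finite K] {g : K} (hg : g ∈ Subgroup.closure {y | ∃ i < 7, v i = y}) :
    ∃ w ∈ allWords, ev v w = g :=
  h.submonoid_words (by
    rw [← Subgroup.closure_toSubmonoid_of_finite]
    exact hg)

variable {G : Type*} [Group G] [Finite G] {s a b x u : G} {Q : Subgroup G}

theorem Frame.exists_word (F : Frame s Q a b x u sw ns) {g : G} (hg : g * s = s * g) :
    ∃ w ∈ allWords, ev (vals s a b x u) w = g :=
  F.rules.closure_words (F.gen g hg)

omit [Finite G] in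
theorem Frame.ev_comm (F : Frame s Q a b x u sw ns) :
    ∀ l : List ℕ, ev (vals s a b x u) l * s = s * ev (vals s a b x u) l := by
  intro l
  induction l with
  | nil => simp [ev_nil]
  | cons i l ih => rw [ev_cons, mul_assoc, ih, ← mul_assoc, F.comm i, mul_assoc]

theorem Frame.word_inj (F : Frame s Q a b x u sw ns) {w w' : List ℕ} (hw : w ∈ allWords)
    (hw' : w' ∈ allWords) (e : ev (vals s a b x u) w = ev (vals s a b x u) w') : w = w' := by
  classical
  let f : allWords.toFinset → Subgroup.centralizer ({s} : Set G) := fun w =>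
    ⟨ev (vals s a b x u) w.1, Subgroup.mem_centralizer_singleton_iff.2 (F.ev_comm _)⟩
  have hf : Function.Bijective f := (Nat.bijective_iff_surjective_and_card f).2
    ⟨fun g => by
      obtain ⟨w, hw, e⟩ := F.exists_word (Subgroup.mem_centralizer_singleton_iff.1 g.2)
      exact ⟨⟨w, List.mem_toFinset.2 hw⟩, Subtype.ext e⟩, by
      rw [Nat.card_eq_finsetCard, List.toFinset_card_of_nodup shape_check.2.2.2.1, shape_check.2.2.1, F.card]⟩
  exact congrArg Subtype.val (hf.1 (a₁ := ⟨w, List.mem_toFinset.2 hw⟩)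
    (a₂ := ⟨w', List.mem_toFinset.2 hw'⟩) (Subtype.ext e))

end CfsgLib.ExtraThirtyTwo
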