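import Cfsg.Agent.Lib.InvolChar.SubgroupsA8

/-!
# The quotient by a self-centralizing normal subgroup of order eight
-/

set_option autoImplicit false

noncomputable section

namespace CfsgLib.ExtraThirtyTwo

theorem quotient_psl {G : Type*} [Group G] [Finite G] (E : Subgroup G) [E.Normal]
    (h2 : ∀ n ∈ E, n ^ 2 = 1) (hcard : Nat.card E = 8)
    (hC : Subgroup.centralizer (E : Set G) ≤ E) (hG : Nat.card G = 1344) :
    IsMulCommutative E ∧ Nonempty (G ⧸ E ≃* Matrix.ProjectiveSpecialLinearGroup (Fin 3) (ZMod 2)) := by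
  classical
  haveI : Fact (Nat.Prime 2) := ⟨Nat.prime_two⟩
  have hsq : ∀ v : E, v ^ 2 = 1 := fun v => Subtype.ext (by rw [Subgroup.coe_pow]; exact h2 _ v.2)
  have hcomm : ∀ a b : E, a * b = b * a := fun a b => by
    have hi : ∀ c : E, c⁻¹ = c := fun c => inv_eq_of_mul_eq_one_right (by rw [← sq, hsq])
    rw [← hi (a * b), _root_.mul_inv_rev, hi, hi]
  refine ⟨⟨⟨hcomm⟩⟩, ?_⟩
  letI : CommGroup E := { E.toGroup with mul_comm := hcomm }
  letI : Module (ZMod 2) (Additive E) := AddCommGroup.zmodModule fun v => by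
    apply Additive.toMul.injective
    rw [toMul_nsmul, toMul_zero]
    exact hsq _
  have hd : Module.finrank (ZMod 2) (Additive E) = 3 := by
    have h := Module.natCard_eq_pow_finrank (K := ZMod 2) (V := Additive E)
    rw [Nat.card_zmod, show Nat.card (Additive E) = 8 by
      rw [← hcard]; exact Nat.card_congr Additive.toMul] at h
    exact Nat.pow_right_injective (le_refl 2) (show 2 ^ Module.finrank (ZMod 2) (Additive E) = 2 ^ 3 by omega)
  haveI : Module.Finite (ZMod 2) (Additive E) := Module.Finite.of_finite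
  obtain ⟨L⟩ : Nonempty (Additive E ≃ₗ[ZMod 2] (Fin 3 → ZMod 2)) :=
    FiniteDimensional.nonempty_linearEquiv_of_finrank_eq (by rw [Module.finrank_fin_fun, hd])
  let toL : MulAut E → ((Additive E) ≃ₗ[ZMod 2] (Additive E)) := fun g =>
    { (MulEquiv.toAdditive g : Additive E ≃+ Additive E) with
      map_smul' := fun c x => ZMod.map_smul (MulEquiv.toAdditive g : Additive E ≃+ Additive E).toAddMonoidHom c x }
  let M : MulAut E →* LinearMap.GeneralLinearGroup (ZMod 2) (Fin 3 → ZMod 2) :=
    { toFun := fun g => LinearMap.GeneralLinearGroup.ofLinearEquiv ((L.symm.trans (toL g)).trans L)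
      map_one' := Units.ext (LinearMap.ext fun x => by
        show L (L.symm x) = x
        exact L.apply_symm_apply x)
      map_mul' := fun a b => Units.ext (LinearMap.ext fun x => by
        show L (Additive.ofMul ((a * b) (Additive.toMul (L.symm x)))) =
          L (Additive.ofMul (a (Additive.toMul (L.symm (L (Additive.ofMul (b (Additive.toMul (L.symm x)))))))))
        rw [L.symm_apply_apply]
        rfl) }
  let N : LinearMap.GeneralLinearGroup (ZMod 2) (Fin 3 → ZMod 2) ≃* GL (Fin 3) (ZMod 2) :=
    Matrix.GeneralLinearGroup.toLin.symm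
  have hMinj : Function.Injective M := fun a b hab => MulEquiv.ext fun v => by
    have h := LinearMap.congr_fun (congrArg Units.val hab) (L (Additive.ofMul v))
    change L (Additive.ofMul (a (Additive.toMul (L.symm (L (Additive.ofMul v)))))) =
      L (Additive.ofMul (b (Additive.toMul (L.symm (L (Additive.ofMul v)))))) at h
    rw [L.symm_apply_apply] at h
    exact congrArg Additive.toMul (L.injective h)
  let φ : G →* GL (Fin 3) (ZMod 2) := N.toMonoidHom.comp (M.comp MulAut.conjNormal)
  have hker : φ.ker = E := by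
    refine le_antisymm (fun g hg => hC ?_) fun g hg => ?_
    · have h1 : MulAut.conjNormal g = (1 : MulAut E) := hMinj (N.injective (by
        rw [map_one, map_one]; exact MonoidHom.mem_ker.1 hg))
      refine Subgroup.mem_centralizer_iff.2 fun e he => ?_
      have h2 : g * e * g⁻¹ = e := congrArg Subtype.val (MulEquiv.congr_fun h1 ⟨e, he⟩)
      exact (mul_inv_eq_iff_eq_mul.1 h2).symm
    · rw [MonoidHom.mem_ker]
      have h1 : MulAut.conjNormal g = (1 : MulAut E) := MulEquiv.ext fun v => Subtype.ext (by
        rw [MulAut.conjNormal_apply]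
        show g * v * g⁻¹ = v
        have := congrArg Subtype.val (hcomm ⟨g, hg⟩ v)
        simp only [Subgroup.coe_mul] at this
        rw [this, mul_inv_cancel_right])
      show N (M (MulAut.conjNormal g)) = 1
      rw [h1, map_one, map_one]
  have hsurj : Function.Surjective φ := by
    rw [← MonoidHom.range_eq_top]
    refine Subgroup.eq_top_of_card_eq _ ?_
    have h1 := Subgroup.index_ker φ
    have h2 := Subgroup.card_mul_index E
    rw [hker] at h1
    rw [hcard, hG, h1] at h2
    rw [CfsgLib.InvolChar.SubgroupsA8.gl3_card]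
    omega
  have hdet : ∀ g : GL (Fin 3) (ZMod 2), (g : Matrix (Fin 3) (Fin 3) (ZMod 2)).det = 1 := fun g =>
    (CfsgLib.A8.zmod_two_cases _).resolve_left
      ((Matrix.isUnit_iff_isUnit_det (g : Matrix (Fin 3) (Fin 3) (ZMod 2))).1 g.isUnit).ne_zero
  have hc : Subgroup.center (Matrix.SpecialLinearGroup (Fin 3) (ZMod 2)) = ⊥ := by
    rw [eq_bot_iff]
    intro A hA
    obtain ⟨r, hr, hA⟩ := Matrix.SpecialLinearGroup.mem_center_iff.1 hA
    rw [Subgroup.mem_bot]
    apply Subtype.ext
    rw [← hA]
    rcases CfsgLib.A8.zmod_two_cases r with rfl | rfl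
    · simp at hr
    · simp
  let e2 : Matrix.ProjectiveSpecialLinearGroup (Fin 3) (ZMod 2) ≃*
      Matrix.SpecialLinearGroup (Fin 3) (ZMod 2) :=
    (QuotientGroup.quotientMulEquivOfEq hc).trans QuotientGroup.quotientBot
  exact ⟨((QuotientGroup.quotientMulEquivOfEq hker.symm).trans
    (QuotientGroup.quotientKerEquivOfSurjective φ hsurj)).trans
      ((CfsgLib.A8.glEquivSL hdet).trans e2.symm)⟩

end CfsgLib.ExtraThirtyTwo
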