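import Cfsg.Agent.Lib.ExtraThirtyTwo.Frame
import Cfsg.Agent.Lib.LargeExtra.Extraspecial
import Cfsg.Agent.Lib.Cores.Basic
import Cfsg.Prelude.Def_Solvable

/-!
# A frame from the hypotheses: extraspecial radical of order 32 with quotient `S₃`
-/

set_option autoImplicit false
set_option maxHeartbeats 400000

namespace CfsgLib.ExtraThirtyTwo

open Subgroup

/-- What the hypotheses give directly. -/
structure Ext {G : Type*} [Group G] (s : G) (Q : Subgroup G) (x u : G) (ns : Bool) : Prop where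
  ss : s * s = 1
  sne : s ≠ 1
  sQ : s ∈ Q
  comm : ∀ q ∈ Q, q * s = s * q
  cardQ : Nat.card Q = 32
  cm : ∀ p ∈ Q, ∀ q ∈ Q, p * q = q * p ∨ p * q = q * p * s
  sq : ∀ q ∈ Q, q * q = 1 ∨ q * q = s
  centre : ∀ p ∈ Q, (∀ q ∈ Q, p * q = q * p) → p = 1 ∨ p = s
  xs : x * s = s * x
  x3 : x * x * x = 1
  fix : ∀ q ∈ Q, x * q = q * x → q = 1 ∨ q = s
  xQ : ∀ q ∈ Q, x * q * x⁻¹ ∈ Q
  us : u * s = s * u
  uQ : ∀ q ∈ Q, u * q * u⁻¹ ∈ Q
  ux : u * x * u⁻¹ = x⁻¹
  u2 : u * u = if ns then s else 1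
  card : Nat.card (centralizer ({s} : Set G)) = 192
  gen : ∀ g : G, g * s = s * g → g ∈ closure ((Q : Set G) ∪ {x, u})

theorem exists_ext {G : Type*} [Group G] [Finite G]
    (s : G) (hs : orderOf s = 2) (L : Subgroup G) (hL : L = centralizer ({s} : Set G))
    (Q : Subgroup G) (hQ : Q = (Cfsg.pCore 2 L).map L.subtype)
    (hQex : Cfsg.IsExtraspecial 2 Q) (hQcard : Nat.card Q = 32)
    (e : L ⧸ Cfsg.pCore 2 L ≃* Equiv.Perm (Fin 3))
    (X : Sylow 3 L) (hCQX : Q ⊓ centralizer (((X : Subgroup L).map L.subtype : Subgroup G) : Set G) = zpowers s) :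
    ∃ x u ns, Ext s Q x u ns := by
  classical
  haveI := Fact.mk Nat.prime_three
  set Q₀ := Cfsg.pCore 2 L
  have hcomm : ∀ g : L, (g : G) * s = s * g := fun g => mem_centralizer_singleton_iff.1 (hL.le g.2)
  have hQL : ∀ q ∈ Q, q * s = s * q := by
    intro q hq
    rw [hQ] at hq
    obtain ⟨q', -, rfl⟩ := hq
    exact hcomm q'
  have hQ0 : ∀ g : L, (g : G) ∈ Q ↔ g ∈ Q₀ := fun g => by
    rw [hQ]; exact mem_map_iff_mem L.subtype_injective
  have hconjQ : ∀ g : L, ∀ q ∈ Q, (g : G) * q * (g : G)⁻¹ ∈ Q := by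
    intro g q hq
    rw [hQ] at hq ⊢
    obtain ⟨q', hq', rfl⟩ := hq
    exact ⟨g * q' * g⁻¹, (inferInstance : Q₀.Normal).conj_mem q' hq' g, rfl⟩
  have hss : s * s = 1 := by rw [← pow_two, ← hs, pow_orderOf_eq_one]
  have hsne : s ≠ 1 := fun h => by rw [h, orderOf_one] at hs; omega
  have hsQ : s ∈ Q := (hCQX.ge (mem_zpowers s)).1
  have hz : ∀ y ∈ zpowers s, y = 1 ∨ y = s := by
    rintro _ ⟨i, rfl⟩
    show s ^ i = 1 ∨ s ^ i = s
    rw [← zpow_mod_orderOf, hs]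
    rcases Int.emod_two_eq_zero_or_one i with h | h <;> simp [h]
  -- the centre of the radical
  obtain ⟨z, hzc, -, hzu⟩ := CfsgLib.LargeExtra.exists_centre_gen hQex
  have hcen : ∀ p : Q, p ∈ center Q → (p : G) = 1 ∨ (p : G) = s := by
    have hsc : (⟨s, hsQ⟩ : Q) ∈ center Q := mem_center_iff.2 fun q => Subtype.ext (hQL q q.2)
    have hsz : (⟨s, hsQ⟩ : Q) = z := (hzu _ hsc).resolve_left fun h => hsne (congrArg Subtype.val h)
    intro p hp
    rcases hzu p hp with h | h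
    · exact Or.inl (congrArg Subtype.val h)
    · exact Or.inr (congrArg Subtype.val (h.trans hsz.symm))
  have hcardL : Nat.card L = 192 := by
    have h := Q₀.card_mul_index
    rw [show Nat.card Q₀ = 32 by rw [← hQcard, hQ, card_map_of_injective L.subtype_injective],
      index_eq_card, Nat.card_congr e.toEquiv, Nat.card_perm, Nat.card_fin] at h
    exact h.symm
  let π : L →* Equiv.Perm (Fin 3) := e.toMonoidHom.comp (QuotientGroup.mk' Q₀)
  have hπ : ∀ g : L, π g = 1 ↔ (g : G) ∈ Q := fun g => by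
    rw [hQ0, ← QuotientGroup.eq_one_iff g]
    exact ⟨fun h => e.injective (h.trans (map_one e).symm), fun h => by
      show e (QuotientGroup.mk g) = 1
      rw [h, map_one]⟩
  have hπs : Function.Surjective π := e.surjective.comp (QuotientGroup.mk'_surjective _)
  -- the element of order three
  have hX : Nat.card X = 3 := by
    rw [X.card_eq_multiplicity, hcardL, show (192 : ℕ) = 3 * 64 by norm_num,
      Nat.factorization_mul (by norm_num) (by norm_num), Finsupp.add_apply,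
      Nat.Prime.factorization_self Nat.prime_three, Nat.factorization_eq_zero_of_not_dvd (by norm_num)]
    norm_num
  obtain ⟨x₀, hx₀X, hx₀1⟩ : ∃ x₀ ∈ (X : Subgroup L), x₀ ≠ 1 := by
    by_contra h
    push Not at h
    have : (X : Subgroup L) = ⊥ := (eq_bot_iff_forall _).2 h
    rw [show Nat.card X = Nat.card (X : Subgroup L) from rfl, this, card_bot] at hX
    omega
  have hord : orderOf x₀ = 3 := by
    have h : orderOf x₀ ∣ 3 := hX ▸ (X : Subgroup L).orderOf_dvd_natCard hx₀X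
    exact ((Nat.dvd_prime Nat.prime_three).1 h).resolve_left fun h1 => hx₀1 (orderOf_eq_one_iff.1 h1)
  have hXz : (X : Subgroup L) = zpowers x₀ :=
    (eq_of_le_of_card_ge (zpowers_le.2 hx₀X) (by rw [Nat.card_zpowers, hord]; exact hX.le)).symm
  set x : G := (x₀ : G)
  have hx03 : x₀ ^ 3 = 1 := (congrArg (x₀ ^ ·) hord.symm).trans (pow_orderOf_eq_one x₀)
  have hx3 : x₀ * x₀ * x₀ = 1 := by
    rw [← pow_one x₀, ← pow_add, ← pow_add, show 1 + 1 + 1 = 3 from rfl, ← hord, pow_orderOf_eq_one]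
  have hfix : ∀ q ∈ Q, x * q = q * x → q = 1 ∨ q = s := fun q hq hqx => hz q (hCQX.le (mem_inf.2 ⟨hq, by
    rw [mem_centralizer_iff]
    rintro _ ⟨y, hy, rfl⟩
    rw [SetLike.mem_coe, hXz] at hy
    obtain ⟨i, rfl⟩ := hy
    show ((x₀ ^ i : L) : G) * q = q * ((x₀ ^ i : L) : G)
    rw [SubgroupClass.coe_zpow]
    exact (Commute.zpow_left hqx i).eq⟩))
  have hfix3 : orderOf (π x₀) = 3 := by
    refine orderOf_eq_prime (by rw [← map_pow, hx03, map_one]) fun h => ?_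
    have hq : x ∈ Q := (hπ x₀).1 h
    have h2 : x₀ ^ 64 = 1 := Subtype.ext (by
      rw [SubgroupClass.coe_pow, OneMemClass.coe_one, show (64 : ℕ) = 32 * 2 from rfl, pow_mul]
      have := congrArg Subtype.val (pow_card_eq_one' (x := (⟨x, hq⟩ : Q)))
      rw [hQcard] at this
      rw [show x ^ 32 = 1 from this, one_pow])
    have h3 : orderOf x₀ ∣ 64 := orderOf_dvd_of_pow_eq_one h2
    rw [hord] at h3
    norm_num at h3
  -- an inverting element
  set R : Subgroup L := (alternatingGroup (Fin 3)).comap π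
  haveI : R.Normal := (inferInstance : (alternatingGroup (Fin 3)).Normal).comap π
  have h3alt : ∀ p : Equiv.Perm (Fin 3), p ^ 3 = 1 → Equiv.Perm.sign p = 1 := by decide
  have hXR : (X : Subgroup L) ≤ R := by
    rw [hXz, zpowers_le]
    show π x₀ ∈ alternatingGroup (Fin 3)
    exact Equiv.Perm.mem_alternatingGroup.2 (h3alt _ ((congrArg (π x₀ ^ ·) hfix3.symm).trans (pow_orderOf_eq_one _)))
  obtain ⟨g₀, hg₀⟩ := hπs (Equiv.swap 0 1)
  obtain ⟨w, hw, r, hr, hwr⟩ := mem_sup_of_normal_right.1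
    ((Sylow.normalizer_sup_eq_top' X hXR).ge (mem_top g₀))
  have hπw : Equiv.Perm.sign (π w) = -1 := by
    have h := congrArg (fun g => Equiv.Perm.sign (π g)) hwr
    simp only [map_mul, hg₀, Equiv.Perm.mem_alternatingGroup.1 hr, mul_one] at h
    rw [h]; decide
  have hodd : ∀ p : Equiv.Perm (Fin 3), Equiv.Perm.sign p = -1 → p * p = 1 := by decide
  have hwX : ∀ y ∈ (X : Subgroup L), w * y * w⁻¹ ∈ (X : Subgroup L) := fun y hy =>
    (mem_normalizer_iff.1 hw y).1 hy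
  have hnX : ∀ y : L, y ∈ (X : Subgroup L) → y = 1 ∨ y = x₀ ∨ y = x₀⁻¹ := by
    intro y hy
    rw [hXz] at hy
    obtain ⟨i, rfl⟩ := hy
    show x₀ ^ i = 1 ∨ x₀ ^ i = x₀ ∨ x₀ ^ i = x₀⁻¹
    rw [← zpow_mod_orderOf, hord]
    have h1 := Int.emod_nonneg i (show (3 : ℤ) ≠ 0 by norm_num)
    have h2 := Int.emod_lt_of_pos i (show (0 : ℤ) < 3 by norm_num)
    rcases (show i % 3 = 0 ∨ i % 3 = 1 ∨ i % 3 = 2 by omega) with h | h | h <;> simp only [Nat.cast_ofNat, h]
    · simp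
    · simp
    · right; right
      rw [zpow_two, eq_inv_iff_mul_eq_one, hx3]
  have hwx : w * x₀ * w⁻¹ = x₀⁻¹ := by
    have hno : ∀ p q : Equiv.Perm (Fin 3), p ^ 3 = 1 → p ≠ 1 → Equiv.Perm.sign q = -1 → q * p * q⁻¹ ≠ p := by decide
    rcases hnX _ (hwX x₀ hx₀X) with h | h | h
    · exact absurd (conj_eq_one_iff.1 h) hx₀1
    · exfalso
      refine hno (π x₀) (π w) ((congrArg (π x₀ ^ ·) hfix3.symm).trans (pow_orderOf_eq_one _)) (fun h' => ?_) hπw (by
        rw [← map_inv, ← map_mul, ← map_mul, h])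
      rw [h', orderOf_one] at hfix3
      omega
    · exact h
  have hw2 : (w : G) * w = 1 ∨ (w : G) * w = s := by
    refine hfix _ ((hπ (w * w)).1 (by rw [map_mul, hodd _ hπw])) ?_
    have h2 : w * w * x₀ * (w * w)⁻¹ = x₀ := by
      rw [show w * w * x₀ * (w * w)⁻¹ = w * (w * x₀ * w⁻¹) * w⁻¹ by group, hwx,
        show w * x₀⁻¹ * w⁻¹ = (w * x₀ * w⁻¹)⁻¹ by group, hwx, inv_inv]
    exact (congrArg Subtype.val (mul_inv_eq_iff_eq_mul.1 h2)).symm
  refine ⟨x, (w : G), decide ((w : G) * w = s), hss, hsne, hsQ, hQL, hQcard, fun p hp q hq => ?_,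
    fun q hq => ?_, fun p hp h => hcen ⟨p, hp⟩ (mem_center_iff.2 fun q => Subtype.ext (h q q.2).symm),
    hcomm x₀, congrArg Subtype.val hx3, hfix, hconjQ x₀, hcomm w, hconjQ w,
    congrArg Subtype.val hwx, ?_, by rw [← hL]; exact hcardL, fun g hg => ?_⟩
  · rcases hcen _ (CfsgLib.LargeExtra.comm_mem_center hQex ⟨p, hp⟩ ⟨q, hq⟩) with h | h
    · exact Or.inl (by
        rw [Subgroup.coe_mul, Subgroup.coe_mul, Subgroup.coe_mul, Subgroup.coe_inv, Subgroup.coe_inv] at h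
        exact mul_inv_eq_iff_eq_mul.1 (mul_inv_eq_one.1 h))
    · right
      rw [Subgroup.coe_mul, Subgroup.coe_mul, Subgroup.coe_mul, Subgroup.coe_inv, Subgroup.coe_inv] at h
      have h1 : p * q = s * (q * p) := by rw [← h]; group
      rw [h1, hQL _ (mul_mem hq hp)]
  · rcases hcen _ (CfsgLib.LargeExtra.sq_mem_center hQex ⟨q, hq⟩) with h | h
    · exact Or.inl h
    · exact Or.inr h
  · by_cases h : (w : G) * w = s
    · simp [h]
    · simp [h, hw2.resolve_right h]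
  · set K : Subgroup L := (closure ((Q : Set G) ∪ {x, (w : G)})).comap L.subtype
    have hsub : ∀ y : L, (y : G) ∈ (Q : Set G) ∪ {x, (w : G)} → y ∈ K := fun y hy => subset_closure hy
    have hker : π.ker ≤ K := fun y hy => hsub y (Or.inl ((hπ y).1 hy))
    have htop : K.map π = ⊤ := by
      refine eq_top_of_card_eq _ (le_antisymm (Subgroup.card_le_card_group _) ?_)
      have d3 : 3 ∣ Nat.card (K.map π) := by
        have h3 := Subgroup.orderOf_dvd_natCard (K.map π) (mem_map_of_mem π (hsub x₀ (by simp [x])))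
        rwa [hfix3] at h3
      have d2 : 2 ∣ Nat.card (K.map π) := by
        have h2 : orderOf (π w) = 2 := orderOf_eq_prime (by rw [pow_two, hodd _ hπw]) fun h => by
          rw [h, map_one] at hπw
          exact absurd hπw (by decide)
        exact h2 ▸ Subgroup.orderOf_dvd_natCard _ (mem_map_of_mem π (hsub w (by simp)))
      rw [Nat.card_perm, Nat.card_fin, show Nat.factorial 3 = 2 * 3 from rfl]
      exact Nat.le_of_dvd Nat.card_pos (Nat.Coprime.mul_dvd_of_dvd_of_dvd (by norm_num) d2 d3)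
    have : (⟨g, hL.ge (mem_centralizer_singleton_iff.2 hg)⟩ : L) ∈ K := by
      rw [← comap_map_eq_self hker, htop]; exact mem_top _
    exact this

section Pairs

variable {G : Type*} [Group G] {s : G} {Q : Subgroup G} {x u : G} {ns : Bool} (E : Ext s Q x u ns)
include E

theorem Ext.inv {q : G} (h : q * q = 1) : q⁻¹ = q := inv_eq_of_mul_eq_one_right h

theorem Ext.norm {y : G} (hy : y ∈ Q) (hy2 : y * y = 1) :
    ∃ p, (p = 1 ∨ p = s) ∧ y * p ∈ Q ∧ y * p * (y * p) = 1 ∧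
      x * x * (y * p) * (x * x)⁻¹ = y * p * (x * (y * p) * x⁻¹) ∧
      y * p * (x * (y * p) * x⁻¹) = x * (y * p) * x⁻¹ * (y * p) := by
  set y1 := x * y * x⁻¹ with hy1
  set y2 := x * y1 * x⁻¹ with hy2'
  have h1 : y1 ∈ Q := E.xQ y hy
  have h2 : y2 ∈ Q := E.xQ y1 h1
  have hcy : ∀ z, x * (x * (x * z * x⁻¹) * x⁻¹) * x⁻¹ = z := fun z => by
    rw [show x * (x * (x * z * x⁻¹) * x⁻¹) * x⁻¹ = x * x * x * z * (x * x * x)⁻¹ by group, E.x3]
    group
  have hs2 : ∀ p, p = 1 ∨ p = s → p * p = 1 ∧ x * p * x⁻¹ = p ∧ ∀ q ∈ Q, p * q = q * p := by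
    rintro p (rfl | rfl)
    · simp
    · exact ⟨E.ss, by rw [E.xs, mul_inv_cancel_right], fun q hq => (E.comm q hq).symm⟩
  set p := y * y1 * y2 with hp
  clear_value p y2 y1
  have hpQ : p ∈ Q := hp ▸ mul_mem (mul_mem hy h1) h2
  have hp' : p = 1 ∨ p = s := by
    refine E.fix p hpQ ?_
    have e : x * p * x⁻¹ = y1 * y2 * y := by
      rw [hp, show x * (y * y1 * y2) * x⁻¹ = x * y * x⁻¹ * (x * y1 * x⁻¹) * (x * y2 * x⁻¹) by group,
        ← hy1, ← hy2', show x * y2 * x⁻¹ = y by rw [hy2', hy1]; exact hcy y]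
    have e' : x * p * x⁻¹ = p ∨ x * p * x⁻¹ = p * s := by
      rw [e]
      rcases E.cm (y1 * y2) (mul_mem h1 h2) y hy with h | h
      · exact Or.inl (by rw [h, hp, ← mul_assoc])
      · exact Or.inr (by rw [h, hp, mul_assoc y y1 y2])
    rcases e' with h | h
    · exact mul_inv_eq_iff_eq_mul.1 h
    · exfalso
      have hx : ∀ z, x * (z * s) * x⁻¹ = x * z * x⁻¹ * s := fun z => by
        rw [show x * (z * s) * x⁻¹ = x * z * x⁻¹ * (x * s * x⁻¹) by group, E.xs, mul_inv_cancel_right]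
      have h' := hcy p
      rw [h, hx, h, hx, hx, h] at h'
      refine E.sne ?_
      rw [mul_assoc (p * s) s s, E.ss, mul_one] at h'
      exact mul_eq_left.1 h'
  obtain ⟨hpp, hpx, hpc⟩ := hs2 p hp'
  have hy11 : y1 * y1 = 1 := by
    rw [hy1, show x * y * x⁻¹ * (x * y * x⁻¹) = x * (y * y) * x⁻¹ by group, hy2]; group
  have hy2e : y2 = y1 * y * p := by
    calc y2 = y1 * (y * y) * y1 * y2 := by rw [hy2, mul_one, hy11, one_mul]
      _ = _ := by rw [hp]; group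
  have hcm : y * y1 = y1 * y := by
    have h22 : y2 * y2 = 1 := by
      rw [hy2', show x * y1 * x⁻¹ * (x * y1 * x⁻¹) = x * (y1 * y1) * x⁻¹ by group, hy11]; group
    rw [hy2e, show y1 * y * p * (y1 * y * p) = y1 * y * (p * (y1 * y)) * p by group, hpc _ (mul_mem h1 hy),
      show y1 * y * (y1 * y * p) * p = y1 * y * (y1 * y) * (p * p) by group, hpp, mul_one] at h22
    have := inv_eq_of_mul_eq_one_right h22
    rwa [mul_inv_rev, E.inv hy2, E.inv hy11] at this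
  refine ⟨p, hp', mul_mem hy hpQ, ?_, ?_, ?_⟩
  · rw [show y * p * (y * p) = y * (p * y) * p by group, hpc y hy, show y * (y * p) * p = y * y * (p * p) by group,
      hy2, hpp, one_mul]
  · have hx1 : x * (y * p) * x⁻¹ = y1 * p := by
      rw [show x * (y * p) * x⁻¹ = x * y * x⁻¹ * (x * p * x⁻¹) by group, hpx, hy1]
    rw [show x * x * (y * p) * (x * x)⁻¹ = x * (x * (y * p) * x⁻¹) * x⁻¹ by group, hx1,
      show x * (y1 * p) * x⁻¹ = x * y1 * x⁻¹ * (x * p * x⁻¹) by group, hpx, ← hy2', hy2e, ← hcm,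
      show y * p * (y1 * p) = y * (p * y1) * p by group, hpc y1 h1]
    group
  · rw [show x * (y * p) * x⁻¹ = x * y * x⁻¹ * (x * p * x⁻¹) by group, hpx, ← hy1,
      show y * p * (y1 * p) = y * (p * y1) * p by group, hpc y1 h1,
      show y1 * p * (y * p) = y1 * (p * y) * p by group, hpc y hy,
      show y * (y1 * p) * p = y * y1 * p * p by group, hcm]
    group

theorem Ext.exists_pairs {t : G} (htQ : t ∈ Q) (ht2 : t * t = 1) (ht1 : t ≠ 1) (hts : t ≠ s) :
    ∃ a b p, (p = 1 ∨ p = s) ∧ a = t * p ∧ a ∈ Q ∧ b ∈ Q ∧ Pairs s a b x := by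
  obtain ⟨p, hp, haQ, ha2, hax, haa⟩ := E.norm htQ ht2
  set a := t * p with ha
  have hac : ¬ ∀ q ∈ Q, a * q = q * a := by
    intro h
    rcases E.centre a haQ h with h' | h' <;> rcases hp with e | e <;> rw [ha, e] at h'
    · exact ht1 (by rwa [mul_one] at h')
    · exact hts (by rw [mul_eq_one_iff_eq_inv, E.inv E.ss] at h'; exact h')
    · exact hts (by rwa [mul_one] at h')
    · exact ht1 (mul_eq_right.1 h')
  push Not at hac
  obtain ⟨q₀, hq₀Q, hq₀⟩ := hac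
  obtain ⟨q₁, hq₁Q, hq₁2, hq₁⟩ : ∃ q₁ ∈ Q, q₁ * q₁ = 1 ∧ a * q₁ ≠ q₁ * a := by
    rcases E.sq q₀ hq₀Q with h | h
    · exact ⟨q₀, hq₀Q, h, hq₀⟩
    · refine ⟨a * q₀, mul_mem haQ hq₀Q, ?_, fun e => hq₀ ?_⟩
      · have e : q₀ * a = a * q₀ * s := (E.cm q₀ hq₀Q a haQ).resolve_left fun e => hq₀ e.symm
        rw [show a * q₀ * (a * q₀) = a * (q₀ * a) * q₀ by group, e,
          show a * (a * q₀ * s) * q₀ = a * a * q₀ * (s * q₀) by group, ha2, one_mul, ← E.comm q₀ hq₀Q,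
          ← mul_assoc, h, E.ss]
      · rw [mul_assoc a q₀ a] at e
        exact mul_left_cancel e
  obtain ⟨p', hp', hbQ, hb2, hbx, hbb⟩ := E.norm hq₁Q hq₁2
  set b₀ := q₁ * p' with hb
  have hps : ∀ q ∈ Q, p' * q = q * p' := fun q hq => by
    rcases hp' with e | e <;> rw [e]
    · rw [one_mul, mul_one]
    · exact (E.comm q hq).symm
  have hab₀ : a * b₀ ≠ b₀ * a := fun e => hq₁ (by
    rw [hb, show q₁ * p' * a = q₁ * (p' * a) by group, hps a haQ, ← mul_assoc, ← mul_assoc] at e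
    exact mul_right_cancel e)
  have hxx : ∀ y ∈ Q, x * x * y * (x * x)⁻¹ ∈ Q := fun y hy => by
    rw [show x * x * y * (x * x)⁻¹ = x * (x * y * x⁻¹) * x⁻¹ by group]
    exact E.xQ _ (E.xQ _ hy)
  -- the partner commuting with `a`
  have hshift : ∀ y : G, x * x * y * (x * x)⁻¹ = y * (x * y * x⁻¹) →
      x * x * (x * y * x⁻¹) * (x * x)⁻¹ = x * y * x⁻¹ * (x * (x * y * x⁻¹) * x⁻¹) := fun y h => by
    conv_lhs => rw [show x * x * (x * y * x⁻¹) * (x * x)⁻¹ = x * (x * x * y * (x * x)⁻¹) * x⁻¹ by group, h]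
    group
  obtain ⟨b, hbQ', hbb', hbx', hbcm, hab, hab1, hab2⟩ : ∃ b ∈ Q, b * b = 1 ∧
      x * x * b * (x * x)⁻¹ = b * (x * b * x⁻¹) ∧ b * (x * b * x⁻¹) = x * b * x⁻¹ * b ∧ a * b = b * a ∧
      a * (x * b * x⁻¹) = x * b * x⁻¹ * a * s ∧
      a * (x * x * b * (x * x)⁻¹) = x * x * b * (x * x)⁻¹ * a * s := by
    have c0 := (E.cm a haQ b₀ hbQ).resolve_left hab₀
    have hsq : ∀ y : G, y * y = 1 → ∀ g : G, g * y * g⁻¹ * (g * y * g⁻¹) = 1 := fun y hy g => by
      rw [show g * y * g⁻¹ * (g * y * g⁻¹) = g * (y * y) * g⁻¹ by group, hy]; group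
    have hcmc : ∀ y : G, y * (x * y * x⁻¹) = x * y * x⁻¹ * y →
        x * y * x⁻¹ * (x * (x * y * x⁻¹) * x⁻¹) = x * (x * y * x⁻¹) * x⁻¹ * (x * y * x⁻¹) := fun y h => by
      rw [show x * y * x⁻¹ * (x * (x * y * x⁻¹) * x⁻¹) = x * (y * (x * y * x⁻¹)) * x⁻¹ by group, h]
      group
    have hcube : ∀ z, x * x * (x * z * x⁻¹) * (x * x)⁻¹ = z := fun z => by
      rw [show x * x * (x * z * x⁻¹) * (x * x)⁻¹ = x * x * x * z * (x * x * x)⁻¹ by group, E.x3]; group
    have hsplit : a * (b₀ * (x * b₀ * x⁻¹)) = a * b₀ * (x * b₀ * x⁻¹) := (mul_assoc _ _ _).symm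
    rcases E.cm a haQ (x * b₀ * x⁻¹) (E.xQ _ hbQ) with c1 | c1
    · refine ⟨x * b₀ * x⁻¹, E.xQ _ hbQ, hsq _ hb2 x, hshift _ hbx, hcmc _ hbb, c1, ?_, ?_⟩
      · rw [show x * (x * b₀ * x⁻¹) * x⁻¹ = x * x * b₀ * (x * x)⁻¹ by group, hbx, hsplit, c0,
          show b₀ * a * s * (x * b₀ * x⁻¹) = b₀ * a * (s * (x * b₀ * x⁻¹)) by group, ← E.comm _ (E.xQ _ hbQ),
          show b₀ * a * (x * b₀ * x⁻¹ * s) = b₀ * (a * (x * b₀ * x⁻¹)) * s by group, c1]
        group
      · rw [hcube]; exact c0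
    · refine ⟨x * (x * b₀ * x⁻¹) * x⁻¹, E.xQ _ (E.xQ _ hbQ), hsq _ (hsq _ hb2 x) x, hshift _ (hshift _ hbx),
        hcmc _ (hcmc _ hbb), ?_, ?_, ?_⟩
      · rw [show x * (x * b₀ * x⁻¹) * x⁻¹ = x * x * b₀ * (x * x)⁻¹ by group, hbx, hsplit, c0,
          show b₀ * a * s * (x * b₀ * x⁻¹) = b₀ * a * (s * (x * b₀ * x⁻¹)) by group, ← E.comm _ (E.xQ _ hbQ),
          show b₀ * a * (x * b₀ * x⁻¹ * s) = b₀ * (a * (x * b₀ * x⁻¹)) * s by group, c1,
          show b₀ * (x * b₀ * x⁻¹ * a * s) * s = b₀ * (x * b₀ * x⁻¹) * a * (s * s) by group, E.ss, mul_one]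
      · rw [show x * (x * (x * b₀ * x⁻¹) * x⁻¹) * x⁻¹ = x * x * x * b₀ * (x * x * x)⁻¹ by group, E.x3,
          show 1 * b₀ * (1 : G)⁻¹ = b₀ by group]
        exact c0
      · rw [show x * x * (x * (x * b₀ * x⁻¹) * x⁻¹) * (x * x)⁻¹ = x * x * (x * (x * b₀ * x⁻¹) * x⁻¹) * (x * x)⁻¹ from rfl,
          hcube]
        exact c1
  refine ⟨a, b, p, hp, rfl, haQ, hbQ', ?_⟩
  have hxs : x * s * x⁻¹ = s := by rw [E.xs, mul_inv_cancel_right]
  have hsa : ∀ y ∈ Q, y * s = s * y := E.comm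
  have hba1 : b * (x * a * x⁻¹) = x * a * x⁻¹ * b * s := by
    have h : x * _ * x⁻¹ = x * _ * x⁻¹ := congrArg (fun y => x * y * x⁻¹) hab2
    rw [show x * (a * (x * x * b * (x * x)⁻¹)) * x⁻¹ = x * a * x⁻¹ * (x * x * x * b * (x * x * x)⁻¹) by group,
      show x * (x * x * b * (x * x)⁻¹ * a * s) * x⁻¹ = x * x * x * b * (x * x * x)⁻¹ * (x * a * x⁻¹) * (x * s * x⁻¹) by group,
      E.x3, hxs, show (1 : G) * b * 1⁻¹ = b by group] at h
    rw [h, mul_assoc _ s s, E.ss, mul_one]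
  have hx1 : x * a * x⁻¹ ∈ Q := E.xQ a haQ
  have hy1 : x * b * x⁻¹ ∈ Q := E.xQ b hbQ'
  intro r hr
  simp only [baseRules, List.mem_cons, List.not_mem_nil, or_false] at hr
  rcases hr with rfl | rfl | rfl | rfl | rfl | rfl | rfl | rfl | rfl | rfl | rfl | rfl | rfl | rfl | rfl | rfl | rfl | rfl | rfl | rfl | rfl <;>
    simp only [ev, vals, List.map_cons, List.map_nil, List.prod_cons, List.prod_nil, mul_one]
  · exact E.ss
  · exact ha2
  · rw [show x * a * x⁻¹ * (x * a * x⁻¹) = x * (a * a) * x⁻¹ by group, ha2]; group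
  · exact hbb'
  · rw [show x * b * x⁻¹ * (x * b * x⁻¹) = x * (b * b) * x⁻¹ by group, hbb']; group
  · rw [← mul_assoc]; exact E.x3
  · exact hsa a haQ
  · exact hsa _ hx1
  · exact hsa b hbQ'
  · exact hsa _ hy1
  · exact E.xs
  · exact haa.symm
  · exact hbcm.symm
  · exact hab.symm
  · rw [hab1, hsa _ (mul_mem hy1 haQ), ← mul_assoc s s, E.ss, one_mul]
  · rw [hba1, hsa _ (mul_mem hx1 hbQ')]
  · rw [show x * b * x⁻¹ * (x * a * x⁻¹) = x * (b * a) * x⁻¹ by group, ← hab]; group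
  · group
  · calc x * (x * a * x⁻¹) = x * x * a * (x * x)⁻¹ * x := by group
      _ = a * (x * a * x⁻¹) * x := by rw [hax]
      _ = _ := by group
  · group
  · calc x * (x * b * x⁻¹) = x * x * b * (x * x)⁻¹ * x := by group
      _ = b * (x * b * x⁻¹) * x := by rw [hbx']
      _ = _ := by group

end Pairs

end CfsgLib.ExtraThirtyTwo
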