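import Cfsg.Agent.Lib.ExtraThirtyTwo.Setup
import Cfsg.Agent.Lib.ExtraThirtyTwo.Checks

/-!
# The frame: the last generator normalised, its square shown to be trivial
-/

set_option autoImplicit false

namespace CfsgLib.ExtraThirtyTwo

open Subgroup

variable {G : Type*} [Group G] {s : G} {Q : Subgroup G} {x u : G} {ns : Bool}

theorem ev_single (v : ℕ → G) (i : ℕ) : ev v [i] = v i := by simp [ev]

theorem ev_zero (a b : G) : ev (vals s a b x u) [0] = s := ev_single _ 0

variable {a b : G} (E : Ext s Q x u ns) (P : Pairs s a b x)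

include E in
theorem Ext.vals_mem (ha : a ∈ Q) (hb : b ∈ Q) (z : G) : ∀ i < 5, vals s a b x z i ∈ Q := by
  intro i hi
  interval_cases i
  · exact E.sQ
  · exact ha
  · exact E.xQ a ha
  · exact hb
  · exact E.xQ b hb

include P in
theorem Pairs.ev_nf (l : List ℕ) : ev (vals s a b x 1) (nf l) = ev (vals s a b x 1) l :=
  (P.holds 1).norm 100 l

include E P in
theorem Ext.ev_inj {w v : List ℕ} (hw : w ∈ coreWords) (hv : v ∈ coreWords)
    (he : ev (vals s a b x 1) w = ev (vals s a b x 1) v) : w = v := by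
  set e := ev (vals s a b x 1) with hedef
  have key : ∀ w ∈ coreWords, ∀ i ∈ [1, 2, 3, 4],
      ((nf (i :: w) == nf (w ++ [i])) = true ↔ e [i] * e w = e w * e [i]) := by
    intro w hw i hi
    rw [beq_iff_eq]
    constructor
    · intro h
      rw [hedef, ← ev_append, ← ev_append, ← P.ev_nf, List.singleton_append, h, P.ev_nf]
    · intro h
      refine (cm_check w hw i hi).resolve_right fun h' => E.sne ?_
      have h1 := congrArg e h'
      rw [hedef, P.ev_nf, P.ev_nf, ← List.singleton_append, ev_append, ev_append, ev_append, ← hedef, h,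
        hedef, ev_zero, mul_assoc] at h1
      exact mul_eq_right.1 h1.symm
  have hmem : ∀ w ∈ coreWords, (w, sig w) ∈ sigTab := fun w hw => sig_tab ▸ List.mem_map.2 ⟨w, hw, rfl⟩
  have hsig : sig w = sig v := List.map_congr_left fun i hi => by
    rw [Bool.eq_iff_iff, key w hw i hi, key v hv i hi, he]
  rcases sep_check _ (hmem w hw) _ (hmem v hv) hsig with h | h
  · exact h
  · exfalso
    refine E.sne ?_
    have h1 := congrArg e h
    rw [hedef, P.ev_nf, ← List.singleton_append, ev_append, ev_zero, ← hedef, he] at h1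
    exact mul_eq_right.1 h1

include E P in
theorem Ext.exists_word [Finite G] (ha : a ∈ Q) (hb : b ∈ Q) {q : G} (hq : q ∈ Q) :
    ∃ w ∈ coreWords, ev (vals s a b x 1) w = q := by
  classical
  have hm : ∀ w ∈ coreWords, ev (vals s a b x 1) w ∈ Q := fun w hw => by
    refine list_prod_mem fun y hy => ?_
    obtain ⟨i, hi, rfl⟩ := List.mem_map.1 hy
    exact E.vals_mem ha hb 1 i (core_lt w hw i hi)
  let f : coreWords.toFinset → Q := fun w => ⟨_, hm w.1 (List.mem_toFinset.1 w.2)⟩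
  have hf : Function.Bijective f := (Nat.bijective_iff_injective_and_card f).2
    ⟨fun w v h => Subtype.ext (E.ev_inj P (List.mem_toFinset.1 w.2) (List.mem_toFinset.1 v.2)
        (congrArg Subtype.val h)), by
      rw [Nat.card_eq_finsetCard, List.toFinset_card_of_nodup shape_check.2.1, shape_check.1, E.cardQ]⟩
  obtain ⟨w, hw⟩ := hf.2 ⟨q, hq⟩
  exact ⟨w.1, List.mem_toFinset.1 w.2, congrArg Subtype.val hw⟩

include E P in
/-- The image of a generator under the last one. -/
theorem Ext.image_cand [Finite G] (ha : a ∈ Q) (hb : b ∈ Q) {y : G} (hyQ : y ∈ Q) (hy2 : y * y = 1)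
    (hy1 : y ≠ 1) (hys : y ≠ s)
    (hyx : x * y * (x * x) = y * (x * x) * y * x) :
    ∃ k < 3, ∃ z ∈ [[1], [3], [0, 1, 3]], y = x ^ k * ev (vals s a b x 1) z * (x ^ k)⁻¹ := by
  obtain ⟨w, hw, rfl⟩ := E.exists_word P ha hb hyQ
  have h5 : ev (vals s a b x 1) [5] = x := ev_single _ 5
  have h55 : ev (vals s a b x 1) [5, 5] = x * x := by
    rw [show [5, 5] = [5] ++ [5] from rfl, ev_append, h5]
  have hinj : ∀ l m, nf l ∈ coreWords → nf m ∈ coreWords →
      ev (vals s a b x 1) l = ev (vals s a b x 1) m → nf l = nf m := fun l m hl hm h =>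
    E.ev_inj P hl hm (by rw [P.ev_nf, P.ev_nf, h])
  have e1 : nf (w ++ w) = [] := by
    refine E.ev_inj P (nf_sq w hw) (by decide) ?_
    rw [P.ev_nf, ev_append, hy2, ev_nil]
  have e2 : nf ([5] ++ w ++ [5, 5]) = nf (w ++ [5, 5] ++ w ++ [5]) := by
    refine hinj _ _ ?_ ?_ ?_
    · exact (nf_turn w hw).1
    · exact (nf_turn w hw).2
    · simp only [ev_append, h5, h55]; exact hyx
  rcases image_check w hw e1 e2 with h | h | ⟨k, hk, z, hz, h⟩
  · exact absurd (by rw [h, ev_nil]) hy1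
  · exact absurd (by rw [h, ev_zero]) hys
  · exact ⟨k, List.mem_range.1 hk, z, hz, by rw [h, P.ev_nf, P.ev_cxw]⟩

theorem Pairs.ne {s a b x : G} (h : Pairs s a b x) (hs : s ≠ 1) : a ≠ 1 ∧ a ≠ s ∧ a * a = 1 := by
  have hv := h.holds 1
  have h1 := hv.eq_of_red (n := 20) (l := [4, 1]) (m := [0, 1, 4]) (by decide)
  have h2 := hv.eq_of_red (n := 20) (l := [4, 0]) (m := [0, 4]) (by decide)
  have h3 := hv ([1, 1], []) (by decide)
  simp only [ev, vals, List.map_cons, List.map_nil, List.prod_cons, List.prod_nil, mul_one] at h1 h2 h3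
  refine ⟨fun e => hs ?_, fun e => hs ?_, h3⟩
  · rw [e] at h1
    simp only [mul_one, one_mul] at h1
    exact mul_eq_right.1 h1.symm
  · rw [e, h2] at h1
    exact mul_eq_right.1 h1.symm

theorem Pairs.commutes {s a b x : G} (h : Pairs s a b x) :
    a * b = b * a ∧ a * (x * a * x⁻¹) = x * a * x⁻¹ * a ∧ b * (x * a * x⁻¹) = s * (x * a * x⁻¹ * b) := by
  have h1 := h ([3, 1], [1, 3]) (by decide)
  have h2 := h ([2, 1], [1, 2]) (by decide)
  have h3 := h ([3, 2], [0, 2, 3]) (by decide)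
  simp only [ev, vals, List.map_cons, List.map_nil, List.prod_cons, List.prod_nil, mul_one] at h1 h2 h3
  exact ⟨h1.symm, h2.symm, h3⟩

include E in
theorem Ext.image_rel {y : G} (hy : x * x * y * (x * x)⁻¹ = y * (x * y * x⁻¹)) :
    x * (u * y * u⁻¹) * (x * x) = u * y * u⁻¹ * (x * x) * (u * y * u⁻¹) * x := by
  have hxi : x⁻¹ = x * x := inv_eq_of_mul_eq_one_right (by rw [← mul_assoc]; exact E.x3)
  have e1 : u * x * u⁻¹ = x * x := by rw [E.ux, hxi]
  have e2 : u * (x * x) * u⁻¹ = x := by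
    rw [show u * (x * x) * u⁻¹ = u * x * u⁻¹ * (u * x * u⁻¹) by group, e1,
      show x * x * (x * x) = x * x * x * x by group, E.x3, one_mul]
  have key : u * (x * x * y * (x * x)⁻¹) * u⁻¹ = u * (y * (x * y * x⁻¹)) * u⁻¹ := by rw [hy]
  rw [show (x * x)⁻¹ = x by rw [← hxi, inv_inv], show u * (x * x * y * x) * u⁻¹ =
    u * (x * x) * u⁻¹ * (u * y * u⁻¹) * (u * x * u⁻¹) by group, e1, e2,
    show u * (y * (x * y * x⁻¹)) * u⁻¹ = u * y * u⁻¹ * (u * x * u⁻¹ * (u * y * u⁻¹) * (u * x * u⁻¹)⁻¹) by group,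
    e1, show (x * x)⁻¹ = x by rw [← hxi, inv_inv]] at key
  rw [key]; group

theorem Pairs.shift {s a b x : G} (h : Pairs s a b x) (k : ℕ) (hxs : x * s = s * x) :
    Pairs s (x ^ k * a * (x ^ k)⁻¹) (x ^ k * b * (x ^ k)⁻¹) x :=
  h.conj (mul_inv_eq_iff_eq_mul.2 (Commute.pow_self x k).eq)
    (mul_inv_eq_iff_eq_mul.2 (Commute.pow_left hxs k).eq)

theorem Pairs.rel_a {s a b x : G} (h : Pairs s a b x) :
    x * x * a * (x * x)⁻¹ = a * (x * a * x⁻¹) := by
  have h1 := (h.holds 1).eq_of_red (n := 20) (l := [5, 5, 1]) (m := [1, 2, 5, 5]) (by decide)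
  simp only [ev, vals, List.map_cons, List.map_nil, List.prod_cons, List.prod_nil, mul_one] at h1
  rw [mul_inv_eq_iff_eq_mul, mul_assoc x x a, h1]; group

end CfsgLib.ExtraThirtyTwo
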