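import Cfsg.Agent.Lib.ExtraThirtyTwo.Setup3
import Cfsg.Agent.Lib.ExtraThirtyTwo.Coded
import Cfsg.Agent.Lib.ExtraThirtyTwo.Quotient
import Cfsg.Agent.Lib.MTwelveInvol.Main
import Cfsg.Agent.Lib.MTwelveUnique.Main

/-!
# A frame of the exchanging type
-/

set_option autoImplicit false
set_option maxRecDepth 16384

noncomputable section

namespace CfsgLib.ExtraThirtyTwo.Twelve

open CfsgLib.MTwelveInvol
open Equiv

attribute [local instance 5000] List.decidableBAll List.decidableBEx

/-- The generators as permutations. -/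
def perm : ℕ → Equiv.Perm (Fin 8)
  | 0 => swap 0 5 * swap 1 2 * swap 3 6 * swap 4 7
  | 1 => swap 0 1 * swap 2 5 * swap 3 4 * swap 6 7
  | 2 => swap 0 6 * swap 1 7 * swap 2 4 * swap 3 5
  | 3 => swap 0 1 * swap 2 5 * swap 3 7 * swap 4 6
  | 4 => swap 0 3 * swap 1 7 * swap 2 4 * swap 5 6
  | 5 => swap 0 1 * swap 1 7 * swap 2 4 * swap 4 5
  | 6 => swap 0 2 * swap 1 5 * swap 4 7
  | _ => 1

/-- Their codes. -/
def gens : List ℕ := [9206869, 14498113, 2206526, 7434049, 3612987, 1660729, 10024490]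

theorem perm_code : ∀ i, pcode (perm i) = gens.getD i onec := by
  intro i
  rcases Nat.lt_or_ge i 7 with hi | hi
  · interval_cases i <;> decide +kernel
  · obtain ⟨n, rfl⟩ : ∃ n, i = n + 7 := ⟨i - 7, by omega⟩
    show pcode 1 = gens.getD (n + 7) onec
    rw [pcode_one, List.getD_eq_default _ _ (by simp [gens])]

theorem eval_rules : ∀ r ∈ allRules true false, evC gens r.1 = evC gens r.2 := by decide +kernel
theorem eval_nodup : (allWords.map (evC gens)).Nodup := by decide +kernel
theorem eval_sub : ∀ w ∈ allWords, evC gens w ∈ L := by decide +kernel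
theorem eval_sup : ∀ c ∈ L, c ∈ allWords.map (evC gens) := by decide +kernel

theorem gens_facts : evC gens [0] = zc ∧ evC gens [1] = CfsgLib.MTwelveInvol.ac ∧
    mulC (evC gens [6]) (evC gens [1]) = mulC (evC gens [3]) (evC gens [6]) ∧
    mulC (mulC (evC gens [0]) (evC gens [1])) (evC gens [3]) ∈ X := by
  decide +kernel

/-- Products of two of the twenty-four. -/
def W2 : List ℕ := (W.flatMap fun p => W.map fun q => mulC p q).eraseDup

theorem W_gen : ∀ c ∈ L, c ∈ W ∨ c ∈ W2 ∨ (∃ p ∈ W, mulC p c ∈ W2) ∨ ∃ p ∈ W2, mulC p c ∈ W2 := by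
  decide +kernel

theorem W2_spec : ∀ c ∈ W2, c ∈ L ∧ ∃ p ∈ W, ∃ q ∈ W, c = mulC p q := by decide +kernel

theorem W_L : ∀ c ∈ W, c ∈ L := by decide +kernel

theorem X_self : ∀ c ∈ L, (∀ x ∈ X, com c x = true) → c ∈ onec :: zc :: X := by decide +kernel

theorem EX_facts : (∀ c ∈ onec :: zc :: X, c ∈ L ∧ mulC c c = onec) ∧ (onec :: zc :: X).Nodup ∧
    (onec :: zc :: X).length = 8 := by decide +kernel

theorem no_normal_three : ∀ c ∈ L, mulC (mulC c c) c = onec → c ≠ onec →
    ∃ h ∈ L, mulC h c ≠ mulC c h ∧ mulC h c ≠ mulC (mulC c c) h := by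
  decide +kernel

theorem X4_square : ∃ q ∈ X4, q ∈ L ∧ mulC q q = onec := by decide +kernel

variable {G : Type*} [Group G] [Finite G]

theorem exists_data {s a b x u : G} {Q : Subgroup G} (F : Frame s Q a b x u true false)
    (hs : orderOf s = 2) (hf : Fused s a b) : ∃ D : Data s, IsConj s (D.el CfsgLib.MTwelveInvol.xc) := by
  obtain ⟨C, hC⟩ := F.exists_coded perm gens L perm_code eval_rules eval_nodup eval_sub eval_sup
  obtain ⟨e0, e1, e61, eX⟩ := gens_facts
  have h0 : C.code s = zc := (hC 0 (by norm_num)).trans e0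
  have h1 : C.code a = CfsgLib.MTwelveInvol.ac := (hC 1 (by norm_num)).trans e1
  have h3 : C.code b = evC gens [3] := hC 3 (by norm_num)
  have h6 : C.code u = evC gens [6] := hC 6 (by norm_num)
  have ca : a * s = s * a := F.comm 1
  have cb : b * s = s * b := F.comm 3
  have cu : u * s = s * u := F.comm 6
  let D : Data s := ⟨C.code, C.mem, C.mul, C.inj, C.surj, h0⟩
  refine ⟨D, ?_⟩
  have ha : a = D.el CfsgLib.MTwelveInvol.ac := D.eq_el ca h1
  have hab : IsConj a b := by
    refine isConj_iff.2 ⟨u, mul_inv_eq_iff_eq_mul.2 (C.inj _ _ (Coded.comm_mul cu ca) (Coded.comm_mul cb cu) ?_)⟩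
    rw [C.mul _ _ cu ca, C.mul _ _ cb cu, h6, h3, show C.code a = evC gens [1] from hC 1 (by norm_num), e61]
  have hnc : ¬ IsConj s a := fun h => not_isConj_ac D (ha ▸ h)
  rcases hf with h | h | h
  · exact (hnc h).elim
  · exact (hnc (h.trans hab.symm)).elim
  · have hsa : s * a * s = s * (s * a) := Coded.comm_mul (s := s) rfl ca
    have hc : third s a b * s = s * third s a b := Coded.comm_mul hsa cb
    have hcX : D.code (third s a b) ∈ X := by
      show C.code (s * a * b) ∈ X
      rw [C.mul _ _ hsa cb, C.mul _ _ rfl ca, h3, show C.code a = evC gens [1] from hC 1 (by norm_num),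
        show C.code s = evC gens [0] from hC 0 (by norm_num)]
      exact eX
    obtain ⟨k, -, hk⟩ := D.conj_el_X hc hcX
    exact h.trans (isConj_iff.2 ⟨k, hk⟩).symm

variable {t : G} (D : Data t) (ht : orderOf t = 2) (hX : IsConj t (D.el CfsgLib.MTwelveInvol.xc))

include ht hX D in
theorem quot_case (h : ∃ E : Subgroup G, E.Normal ∧
    (∀ u, u ∈ E ↔ u * t = t * u ∧ D.code u ∈ onec :: zc :: X) ∧ Nat.card G = 1344) :
    ∃ (N : Subgroup G) (_ : N.Normal), IsMulCommutative N ∧ (∀ n ∈ N, n ^ 2 = 1) ∧ Nat.card N = 8 ∧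
      Nonempty (G ⧸ N ≃* Matrix.ProjectiveSpecialLinearGroup (Fin 3) (ZMod 2)) := by
  classical
  obtain ⟨E, hE, hmem, hG⟩ := h
  obtain ⟨hL, hnd, hlen⟩ := EX_facts
  have h2 : ∀ n ∈ E, n ^ 2 = 1 := fun n hn => by
    obtain ⟨h1, h2⟩ := (hmem n).1 hn
    rw [sq]
    exact (D.sq_one_iff h1).1 (hL _ h2).2
  have h8 : Nat.card E = 8 := by
    rw [← hlen, ← List.toFinset_card_of_nodup hnd, ← Nat.card_eq_finsetCard]
    refine Nat.card_eq_of_bijective (fun u => ⟨D.code u.1, List.mem_toFinset.2 ((hmem _).1 u.2).2⟩) ⟨?_, ?_⟩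
    · intro u v e
      exact Subtype.ext (D.inj _ _ ((hmem _).1 u.2).1 ((hmem _).1 v.2).1 (congrArg Subtype.val e))
    · rintro ⟨c, hc⟩
      have hc' := List.mem_toFinset.1 hc
      refine ⟨⟨D.el c, (hmem _).2 ⟨D.el_comm c, ?_⟩⟩, Subtype.ext (D.code_el (hL c hc').1)⟩
      rw [D.code_el (hL c hc').1]; exact hc'
  haveI := hE
  have hCE : Subgroup.centralizer (E : Set G) ≤ E := by
    intro k hk
    have htE : t ∈ E := (hmem t).2 ⟨rfl, by rw [D.code_t]; simp⟩
    have hk' := Subgroup.mem_centralizer_iff.1 hk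
    have hkt : k * t = t * k := (hk' t htE).symm
    refine (hmem k).2 ⟨hkt, X_self _ (D.mem k hkt) fun x hx => ?_⟩
    have hxL : x ∈ L := (hL x (List.mem_cons_of_mem _ (List.mem_cons_of_mem _ hx))).1
    have hxE : D.el x ∈ E := (hmem _).2 ⟨D.el_comm x, by
      rw [D.code_el hxL]; exact List.mem_cons_of_mem _ (List.mem_cons_of_mem _ hx)⟩
    have h := congrArg D.code (hk' _ hxE).symm
    rw [D.mul _ _ hkt (D.el_comm x), D.mul _ _ (D.el_comm x) hkt, D.code_el hxL] at h
    exact beq_iff_eq.2 h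
  obtain ⟨hc, hq⟩ := quotient_psl E h2 h8 hCE hG
  exact ⟨E, hE, hc, h2, h8, hq⟩

include ht hX D in
theorem m12_case (hW : IsConj t (D.el wc)) (hG : Nat.card G = 95040) : Cfsg.Spor.IsoM12 G := by
  classical
  haveI : Fact (Nat.Prime 2) := ⟨Nat.prime_two⟩
  have hne : t ≠ 1 := CfsgLib.Invol.ne_one_of_orderOf_two ht
  haveI : Nontrivial G := ⟨t, 1, hne⟩
  haveI : IsSimpleGroup G := by
    refine ⟨fun N hN => ?_⟩
    haveI := hN
    by_cases h2 : 2 ∣ Nat.card N
    · right
      obtain ⟨y, hy⟩ := exists_prime_orderOf_dvd_card' (G := N) 2 h2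
      rw [← Subgroup.orderOf_coe] at hy
      have conjN : ∀ {p q : G}, IsConj p q → p ∈ N → q ∈ N := fun hpq hp => by
        obtain ⟨k, rfl⟩ := isConj_iff.1 hpq
        exact hN.conj_mem _ hp k
      have htN : t ∈ N := by
        rcases two_classes D ht hX (Or.inl hW) y.1 hy with h | h
        · exact conjN h.symm y.2
        · have haN := conjN h.symm y.2
          obtain ⟨q, hq, hqL, hqq⟩ := X4_square
          have hac := D.code_el named_mem.2.2.1
          have hqq' : D.el q * D.el q = 1 := (D.sq_one_iff (D.el_comm q)).1 (by rw [D.code_el hqL, hqq])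
          have hcm := commT_mul (D.el_comm CfsgLib.MTwelveInvol.ac) (D.el_comm q)
          have e : (D.el CfsgLib.MTwelveInvol.ac * D.el q) ^ 2 = t := by
            rw [← D.eq_t_iff (commT_pow hcm 2), D.code_pow hcm, D.mul _ _ (D.el_comm _) (D.el_comm q),
              hac, D.code_el hqL]
            exact sq_AX _ ac_A4 _ hq
          rw [← e, sq, show D.el CfsgLib.MTwelveInvol.ac * D.el q * (D.el CfsgLib.MTwelveInvol.ac * D.el q) =
            D.el CfsgLib.MTwelveInvol.ac * (D.el q * D.el CfsgLib.MTwelveInvol.ac * (D.el q)⁻¹) by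
              rw [inv_eq_of_mul_eq_one_right hqq']; group]
          exact mul_mem haN (hN.conj_mem _ haN _)
      have hWN : ∀ c ∈ W, D.el c ∈ N := fun c hc => by
        obtain ⟨k, -, hk⟩ := D.conj_el_W (D.el_comm c) ((D.code_el (W_L c hc)).symm ▸ hc)
        exact conjN (hW.trans (isConj_iff.2 ⟨k, hk⟩)) htN
      have hmulel : ∀ {p q : ℕ}, p ∈ L → q ∈ L → mulC p q ∈ L → D.el p * D.el q = D.el (mulC p q) :=
        fun hp hq _ => D.eq_el (commT_mul (D.el_comm _) (D.el_comm _))
          (by rw [D.mul _ _ (D.el_comm _) (D.el_comm _), D.code_el hp, D.code_el hq])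
      have hW2N : ∀ c ∈ W2, D.el c ∈ N := fun c hc => by
        obtain ⟨hcL, p, hp, q, hq, rfl⟩ := W2_spec c hc
        rw [← hmulel (W_L p hp) (W_L q hq) hcL]
        exact mul_mem (hWN p hp) (hWN q hq)
      have hCN : ∀ g, g * t = t * g → g ∈ N := fun g hg => by
        have hgL := D.mem g hg
        rw [D.eq_el hg rfl]
        rcases W_gen _ hgL with h | h | ⟨p, hp, h⟩ | ⟨p, hp, h⟩
        · exact hWN _ h
        · exact hW2N _ h
        · have := mul_mem (inv_mem (hWN p hp)) (hW2N _ h)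
          rwa [← hmulel (W_L p hp) hgL (W2_spec _ h).1, inv_mul_cancel_left] at this
        · have := mul_mem (inv_mem (hW2N p hp)) (hW2N _ h)
          rwa [← hmulel (W2_spec p hp).1 hgL (W2_spec _ h).1, inv_mul_cancel_left] at this
      let P0 : Submonoid G :=
        { carrier := {g | g * t = t * g ∧ D.code g ∈ S}
          one_mem' := ⟨by simp, by rw [D.code_one]; exact S_one⟩
          mul_mem' := fun {p q} hp hq => ⟨commT_mul hp.1 hq.1,
            by rw [D.mul _ _ hp.1 hq.1]; exact S_closed _ hp.2 _ hq.2⟩ }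
      let P : Subgroup G :=
        { P0 with
          inv_mem' := fun {p} hp => by
            obtain ⟨n, hn⟩ : ∃ n : ℕ, p⁻¹ = p ^ n := ⟨orderOf p - 1, by
              rw [inv_eq_iff_mul_eq_one, ← pow_succ', Nat.sub_add_cancel (orderOf_pos p),
                pow_orderOf_eq_one]⟩
            exact hn ▸ P0.pow_mem hp n }
      have hP64 : Nat.card P = 64 := by
        rw [← S_length, ← List.toFinset_card_of_nodup S_nodup, ← Nat.card_eq_finsetCard]
        refine Nat.card_eq_of_bijective (fun u => ⟨D.code u.1, List.mem_toFinset.2 u.2.2⟩) ⟨?_, ?_⟩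
        · intro u v e
          exact Subtype.ext (D.inj _ _ u.2.1 v.2.1 (congrArg Subtype.val e))
        · rintro ⟨c, hc⟩
          have hc' := List.mem_toFinset.1 hc
          refine ⟨⟨D.el c, D.el_comm c, ?_⟩, Subtype.ext (D.code_el (S_sub c hc'))⟩
          rw [D.code_el (S_sub c hc')]; exact hc'
      have hfac : (Nat.card G).factorization 2 = 6 := by
        rw [hG, show (95040 : ℕ) = 2 ^ 6 * 1485 by norm_num, Nat.factorization_mul (by norm_num) (by norm_num),
          Finsupp.add_apply, Nat.Prime.factorization_pow Nat.prime_two, Finsupp.single_eq_same,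
          Nat.factorization_eq_zero_of_not_dvd (by norm_num)]
      let Ps : Sylow 2 G := Sylow.ofCard P (by rw [hP64, hfac]; norm_num)
      have hPN : (Ps : Subgroup G) ≤ N := fun g hg => hCN g hg.1
      have hnorm : Subgroup.normalizer ((Ps : Subgroup G) : Set G) ≤ N := fun g hg => by
        refine hCN g ?_
        have htP : t ∈ P := ⟨rfl, by rw [D.code_t]; exact S_zc⟩
        have h1 : g * t * g⁻¹ ∈ P := (Subgroup.mem_normalizer_iff.1 hg t).1 htP
        have h1t : g * t * g⁻¹ * t = t * (g * t * g⁻¹) := h1.1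
        have hcz := S_center _ (D.mem _ h1t) fun p hp => by
          have hpP : D.el p ∈ P := ⟨D.el_comm p, by rw [D.code_el (S_sub p hp)]; exact hp⟩
          have h2 := (Subgroup.mem_normalizer_iff.1 hg (g⁻¹ * D.el p * g)).2 (by
            rw [show g * (g⁻¹ * D.el p * g) * g⁻¹ = D.el p by group]; exact hpP)
          have h3 : g * t * g⁻¹ * D.el p = D.el p * (g * t * g⁻¹) := by
            have h4 : g⁻¹ * D.el p * g * t = t * (g⁻¹ * D.el p * g) := h2.1
            calc g * t * g⁻¹ * D.el p = g * (t * (g⁻¹ * D.el p * g)) * g⁻¹ := by group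
              _ = _ := by rw [← h4]; group
          have h5 := congrArg D.code h3
          rw [D.mul _ _ h1t (D.el_comm p), D.mul _ _ (D.el_comm p) h1t, D.code_el (S_sub p hp)] at h5
          exact beq_iff_eq.2 h5
        rcases hcz with h | h
        · rw [D.eq_one_iff h1t, conj_eq_one_iff] at h
          exact (hne h).elim
        · exact mul_inv_eq_iff_eq_mul.1 ((D.eq_t_iff h1t).1 h)
      have h := Sylow.normalizer_sup_eq_top' Ps hPN
      exact top_le_iff.1 (h ▸ sup_le hnorm le_rfl)
    · left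
      have hodd : Odd (Nat.card N) := Nat.odd_iff.2 (Nat.two_dvd_ne_zero.1 h2)
      have fix1 : ∀ n ∈ N, n * t = t * n → n = 1 := by
        intro n hn hnt
        have hdN : ∀ m ∈ N, orderOf m ∣ Nat.card N := fun m hm => by
          have h := orderOf_dvd_natCard (⟨m, hm⟩ : N)
          rwa [Subgroup.orderOf_mk] at h
        let M : Subgroup G := N ⊓ Subgroup.centralizer ({t} : Set G)
        have hdM : ∀ m ∈ M, orderOf m ∣ 3 := fun m hm => by
          obtain ⟨hm1, hm2⟩ := Subgroup.mem_inf.1 hm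
          have h192 : orderOf m ∣ 192 := by
            rw [← D.card_C]
            have h := orderOf_dvd_natCard (⟨m, hm2⟩ : Subgroup.centralizer ({t} : Set G))
            rwa [Subgroup.orderOf_mk] at h
          exact Nat.Coprime.dvd_of_dvd_mul_left
            (((Odd.of_dvd_nat hodd (hdN m hm1)).coprime_two_right).pow_right 6) (by norm_num; exact h192)
        have hcard3 : Nat.card M ∣ 3 := by
          have h1 : Nat.card M ∣ 192 := D.card_C ▸ Subgroup.card_dvd_of_le inf_le_right
          have h2 : Nat.card M ∣ Nat.card N := Subgroup.card_dvd_of_le inf_le_left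
          exact Nat.Coprime.dvd_of_dvd_mul_left (((Odd.of_dvd_nat hodd h2).coprime_two_right).pow_right 6)
            (by norm_num; exact h1)
        by_contra hn1
        have hnM : n ∈ M := Subgroup.mem_inf.2 ⟨hn, Subgroup.mem_centralizer_singleton_iff.2 hnt⟩
        have h3 : orderOf n = 3 := ((Nat.dvd_prime Nat.prime_three).1 (hdM n hnM)).resolve_left
          (fun e => hn1 (orderOf_eq_one_iff.1 e))
        have hz : Subgroup.zpowers n = M := by
          refine Subgroup.eq_of_le_of_card_ge (Subgroup.zpowers_le.2 hnM) ?_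
          rw [Nat.card_zpowers, h3]
          exact Nat.le_of_dvd (by norm_num) hcard3
        have hcube : mulC (mulC (D.code n) (D.code n)) (D.code n) = onec := by
          rw [← D.mul _ _ hnt hnt, ← D.mul _ _ (commT_mul hnt hnt) hnt, ← D.code_one, mul_assoc, ← sq,
            ← pow_succ', show 2 + 1 = orderOf n by omega, pow_orderOf_eq_one]
        obtain ⟨h, hh, n1, n2⟩ := no_normal_three _ (D.mem n hnt) hcube
          (fun e => hn1 ((D.eq_one_iff hnt).1 e))
        have hmem : D.el h * n * (D.el h)⁻¹ ∈ Subgroup.zpowers n := by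
          rw [hz, Subgroup.mem_inf, Subgroup.mem_centralizer_singleton_iff]
          exact ⟨hN.conj_mem n hn _, commT_conj (D.el_comm h) hnt⟩
        obtain ⟨i, hi⟩ := Subgroup.mem_zpowers_iff.1 hmem
        rw [← zpow_mod_orderOf, h3] at hi
        have h0 := Int.emod_nonneg i (show ((3 : ℕ) : ℤ) ≠ 0 by norm_num)
        have h3' := Int.emod_lt_of_pos i (show (0 : ℤ) < ((3 : ℕ) : ℤ) by norm_num)
        have hc : i % ((3 : ℕ) : ℤ) = 0 ∨ i % ((3 : ℕ) : ℤ) = 1 ∨ i % ((3 : ℕ) : ℤ) = 2 := by omega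
        rcases hc with e | e | e <;> rw [e] at hi
        · rw [zpow_zero] at hi
          exact hn1 (conj_eq_one_iff.1 hi.symm)
        · rw [zpow_one] at hi
          apply n1
          rw [← D.code_el hh, ← D.mul _ _ (D.el_comm h) hnt, ← D.mul _ _ hnt (D.el_comm h)]
          congr 1
          exact mul_inv_eq_iff_eq_mul.1 hi.symm
        · rw [zpow_two] at hi
          apply n2
          rw [← D.code_el hh, ← D.mul _ _ (D.el_comm h) hnt, ← D.mul _ _ hnt hnt,
            ← D.mul _ _ (commT_mul hnt hnt) (D.el_comm h)]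
          congr 1
          exact mul_inv_eq_iff_eq_mul.1 hi.symm
      have inv : ∀ y, IsConj t y → ∀ n ∈ N, y * n * y⁻¹ = n⁻¹ := fun y hy => by
        obtain ⟨k, rfl⟩ := isConj_iff.1 hy
        refine inverts_of_fixed ?_ fun o ho he => ?_
        · rw [show k * t * k⁻¹ * (k * t * k⁻¹) = k * (t * t) * k⁻¹ by group,
            CfsgLib.Invol.mul_self_of_orderOf_two ht]
          group
        · refine conj_eq_one_iff.1 (fix1 (k⁻¹ * o * k⁻¹⁻¹) (hN.conj_mem o ho _) ?_)
          calc k⁻¹ * o * k⁻¹⁻¹ * t = k⁻¹ * (o * (k * t * k⁻¹)) * k := by group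
            _ = _ := by rw [he]; group
      rw [eq_bot_iff]
      intro n hn
      rw [Subgroup.mem_bot]
      have hxzL : xzc ∈ L := (cls_sub _ (List.mem_cons_of_mem _ (List.mem_append_left _
        (List.mem_append_left _ named_cls.2.1)))).1
      obtain ⟨k, -, hk⟩ := D.conj_el_X (D.el_comm xzc) ((D.code_el hxzL).symm ▸ named_cls.2.1)
      have hxzt : IsConj t (D.el xzc) := hX.trans (isConj_iff.2 ⟨k, hk⟩)
      have e : D.el xzc = D.el CfsgLib.MTwelveInvol.xc * t := by
        refine (D.eq_el (commT_mul (D.el_comm _) rfl) ?_).symm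
        rw [D.mul _ _ (D.el_comm _) rfl, D.code_el named_mem.2.1, D.code_t]; rfl
      have h1 := inv _ hxzt n hn
      rw [e, show D.el CfsgLib.MTwelveInvol.xc * t * n * (D.el CfsgLib.MTwelveInvol.xc * t)⁻¹ =
        D.el CfsgLib.MTwelveInvol.xc * (t * n * t⁻¹) * (D.el CfsgLib.MTwelveInvol.xc)⁻¹ by group,
        inv t (IsConj.refl t) n hn, inv _ hX _ (inv_mem hn), inv_inv] at h1
      have h2' : n ^ 2 = 1 := by rw [sq]; nth_rewrite 2 [h1]; exact mul_inv_cancel n
      have hd : orderOf n ∣ Nat.card N := by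
        have h := orderOf_dvd_natCard (⟨n, hn⟩ : N)
        rwa [Subgroup.orderOf_mk] at h
      exact orderOf_eq_one_iff.1 (Nat.eq_one_of_dvd_coprimes hodd.coprime_two_right hd
        (orderOf_dvd_of_pow_eq_one h2'))
  haveI := Fintype.ofFinite G
  exact CfsgLib.MTwelveUnique.equiv_M12 hG

include ht hX D in
theorem classify :
    (∃ (N : Subgroup G) (_ : N.Normal), IsMulCommutative N ∧ (∀ n ∈ N, n ^ 2 = 1) ∧ Nat.card N = 8 ∧
      Nonempty (G ⧸ N ≃* Matrix.ProjectiveSpecialLinearGroup (Fin 3) (ZMod 2))) ∨ Cfsg.Spor.IsoM12 G := by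
  rcases dichotomy D ht hX with ⟨hW, hg⟩ | ⟨hW, hg⟩
  · exact Or.inr (m12_case D ht hX hW (case_one D ht hX hW hg))
  · exact Or.inl (quot_case D ht hX (case_two D ht hX hW hg))

end CfsgLib.ExtraThirtyTwo.Twelve
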