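import Mathlib

/-!
# Collection in the groups of shape `2^{1+4}.S₃`

Words in seven generators `s, a, a₁, b, b₁, x, u` (numbered `0` to `6`) and the rewriting rules of the
presentations; rewriting keeps the value in any group in which the rules hold.
-/

set_option autoImplicit false

namespace CfsgLib.ExtraThirtyTwo

/-- The rules not involving the last generator. -/
def baseRules : List (List ℕ × List ℕ) :=
  [([0, 0], []), ([1, 1], []), ([2, 2], []), ([3, 3], []), ([4, 4], []), ([5, 5, 5], []),
   ([1, 0], [0, 1]), ([2, 0], [0, 2]), ([3, 0], [0, 3]), ([4, 0], [0, 4]), ([5, 0], [0, 5]),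
   ([2, 1], [1, 2]), ([4, 3], [3, 4]), ([3, 1], [1, 3]), ([4, 1], [0, 1, 4]), ([3, 2], [0, 2, 3]),
   ([4, 2], [2, 4]), ([5, 1], [2, 5]), ([5, 2], [1, 2, 5]), ([5, 3], [4, 5]), ([5, 4], [3, 4, 5])]

/-- The rules for the last generator: `swap` says whether it interchanges the two pairs, `ns` whether its
square is the central involution. -/
def topRules (swap ns : Bool) : List (List ℕ × List ℕ) :=
  [([6, 6], if ns then [0] else []), ([6, 0], [0, 6]), ([6, 5], [5, 5, 6])] ++
    if swap then [([6, 1], [3, 6]), ([6, 2], [3, 4, 6]), ([6, 3], [1, 6]), ([6, 4], [1, 2, 6])]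
    else [([6, 1], [1, 6]), ([6, 2], [1, 2, 6]), ([6, 3], [3, 6]), ([6, 4], [3, 4, 6])]

/-- All rules. -/
def allRules (swap ns : Bool) : List (List ℕ × List ℕ) := baseRules ++ topRules swap ns

/-- Rewrite at the leftmost possible place. -/
def step (R : List (List ℕ × List ℕ)) : List ℕ → List ℕ
  | [] => []
  | x :: l =>
    match R.find? fun r => r.1.isPrefixOf (x :: l) with
    | some r => r.2 ++ (x :: l).drop r.1.length
    | none => x :: step R l

/-- Rewrite a given number of times. -/
def red (R : List (List ℕ × List ℕ)) : ℕ → List ℕ → List ℕ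
  | 0, l => l
  | n + 1, l => red R n (step R l)

variable {G : Type*} [Group G]

/-- The value of a word. -/
def ev (v : ℕ → G) (l : List ℕ) : G := (l.map v).prod

theorem ev_nil (v : ℕ → G) : ev v [] = 1 := rfl

theorem ev_cons (v : ℕ → G) (i : ℕ) (l : List ℕ) : ev v (i :: l) = v i * ev v l := by simp [ev]

theorem ev_append (v : ℕ → G) (l m : List ℕ) : ev v (l ++ m) = ev v l * ev v m := by simp [ev]

/-- The rules hold for the values. -/
def Holds (v : ℕ → G) (R : List (List ℕ × List ℕ)) : Prop := ∀ r ∈ R, ev v r.1 = ev v r.2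

theorem Holds.step {v : ℕ → G} {R : List (List ℕ × List ℕ)} (h : Holds v R) :
    ∀ l, ev v (step R l) = ev v l
  | [] => rfl
  | x :: l => by
    unfold ExtraThirtyTwo.step
    split
    · next r hr =>
      have hp : r.1.isPrefixOf (x :: l) = true := by simpa using List.find?_some hr
      rw [List.isPrefixOf_iff_prefix] at hp
      obtain ⟨m, hm⟩ := hp
      rw [← hm, List.drop_left, ev_append, ev_append, h r (List.mem_of_find?_eq_some hr)]
    · rw [ev_cons, ev_cons, Holds.step h l]

theorem Holds.red {v : ℕ → G} {R : List (List ℕ × List ℕ)} (h : Holds v R) :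
    ∀ n l, ev v (red R n l) = ev v l
  | 0, _ => rfl
  | n + 1, l => by
    show ev v (ExtraThirtyTwo.red R n (ExtraThirtyTwo.step R l)) = ev v l
    rw [Holds.red h n, h.step]

/-- Equal normal forms give equal values. -/
theorem Holds.eq_of_red {v : ℕ → G} {R : List (List ℕ × List ℕ)} (h : Holds v R) {n : ℕ} {l m : List ℕ}
    (e : ExtraThirtyTwo.red R n l = ExtraThirtyTwo.red R n m) : ev v l = ev v m := by
  rw [← h.red n l, ← h.red n m, e]

theorem Holds.mono {v : ℕ → G} {R R' : List (List ℕ × List ℕ)} (h : Holds v R) (hs : ∀ r ∈ R', r ∈ R) :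
    Holds v R' := fun r hr => h r (hs r hr)

/-- The normal forms of the normal subgroup of order 32. -/
def coreWords : List (List ℕ) :=
  (List.range 32).map fun m => [0, 1, 2, 3, 4].filter fun i => m.testBit i

/-- The 192 normal forms. -/
def allWords : List (List ℕ) :=
  coreWords.flatMap fun q => (List.range 3).flatMap fun i => (List.range 2).map fun j =>
    q ++ List.replicate i 5 ++ List.replicate j 6

end CfsgLib.ExtraThirtyTwo
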